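import Cfsg.Agent.CosetCert.Lower
import Cfsg.Agent.Schur.PrimeCert

/-!
Generated: certificates at the primes 2, 3 and 5 for the fourfold cover.
-/

set_option autoImplicit false

namespace Cfsg.Lib.OEightCover

open Cfsg.Lib.PermCert

open Cfsg.Lib.Schur.Prime (Cert)

/-- The certificate. -/
def certTwo : Cert where
  p := 2
  n := 14
  tails := [[[12,13]],
    [[0,1,2,5,7,9,11,12], [2,4,6,8,9,10,12,13]],
    [[0,2,8,11,12], [1,2,5,6,7,9,10,12,13], [8,11,13]],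
    [[0,3,5,6,9,11], [1,3,4,5,6,7,9,10], [2,3,5,6,9,10,11], [10,12,13]],
    [[0,4,5,6,8,9,10,13], [1,4,5,6,12,13], [2,4,8,9,10,13], [3,4,8,9,11,13], []],
    [[0,5,10,11,12,13], [1,5,7,9,11,12], [2,5,8,10,13], [3,5,8,9,12,13], [4,5,8,9,10,12], [10,11]],
    [[0,6,12,13], [1,6,7,9,11,12,13], [2,6,8,11,13], [3,6,8,9,10,12,13], [4,6,8,9,10,12,13], [5,6,10,11,13], []],
    [[0,7,8,11,13], [1,7,9,10,11], [2,7,13], [3,7,8,9], [4,7], [5,7,11], [6,7,12], []],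
    [[0,8,12,13], [1,8,10,11,12,13], [2,8,12], [3,8,10,12,13], [4,8,11,12,13], [5,8,12,13], [6,8,12], [7,8], []],
    [[0,9,10,11,12,13], [1,9,11], [2,9,11], [3,9,10,12,13], [4,9,11,13], [5,9,12,13], [6,9,12], [7,9,12], [8,9,12], []],
    [[0,10,12,13], [1,10,11,12], [2,10,12,13], [3,10], [4,10], [5,10,12], [6,10,12], [7,10,12], [8,10], [9,10], []],
    [[0,11,12,13], [1,11,13], [2,11,12], [3,11,12], [4,11], [5,11,12], [6,11,12], [7,11], [8,11], [9,11], [10,11], []],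
    [[0,12], [1,12], [2,12], [3,12], [4,12], [5,12], [6,12], [7,12], [8,12], [9,12], [10,12], [11,12], []],
    [[0,13], [1,13], [2,13], [3,13], [4,13], [5,13], [6,13], [7,13], [8,13], [9,13], [10,13], [11,13], [12,13], []]]
  overlaps := [([0,0,0],1), ([1,1,0],1), ([1,0,0],1), ([1,1,1],1), ([2,2,0],1), ([2,0,0],1), ([2,1,0],1), ([2,2,1],1), ([2,1,1],1), ([3,3,0],1), ([3,0,0],1), ([3,1,0],1), ([3,3,1],1), ([3,1,1],1), ([3,2,0],1), ([3,2,1],1), ([3,3,2],1), ([3,2,2],1), ([3,3,3],1), ([4,4,0],1), ([4,0,0],1), ([4,1,0],1), ([4,4,1],1), ([4,1,1],1), ([4,2,0],1), ([4,2,1],1), ([4,4,2],1), ([4,2,2],1), ([4,3,0],1), ([4,3,1],1), ([4,3,2],1), ([4,4,3],1), ([4,3,3],1), ([5,5,0],1), ([5,0,0],1), ([5,1,0],1), ([5,5,1],1), ([5,1,1],1), ([5,2,0],1), ([5,2,1],1), ([5,5,2],1), ([5,2,2],1), ([5,3,0],1), ([5,3,1],1), ([5,3,2],1), ([5,5,3],1), ([5,3,3],1), ([5,4,0],1), ([5,4,1],1), ([5,4,2],1), ([5,4,3],1), ([5,5,4],1),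 ([5,4,4],1), ([6,6,0],1), ([6,1,0],1), ([6,6,1],1), ([6,1,1],1), ([6,2,0],1), ([6,2,1],1), ([6,3,0],1), ([6,3,1],1), ([6,3,2],1), ([6,6,3],1), ([6,3,3],1), ([6,4,0],1), ([6,4,1],1), ([6,4,2],1), ([6,4,3],1), ([6,4,4],1), ([6,5,0],1), ([6,5,1],1), ([6,5,2],1), ([6,5,3],1), ([6,5,4],1), ([6,6,5],1), ([6,5,5],1), ([7,7,0],1), ([7,0,0],1), ([7,1,0],1), ([7,7,1],1), ([7,1,1],1), ([7,2,0],1)]
  fuse := [([[6,9,11,12,13], [1,6,7,11,12], [5,8,9,10,12], [2,4,5,6,7,8,10,12,13], [0,2,3,6,8,9,12,13], [10,12], [2,4,6,7,8,10,11,12,13], [7,9,10,13], [9,10,11,12,13], [9,10,12,13], [12], [12,13]], [[6,7,10,11,12], [0,2,4,7,8,11,12,13], [0,3,4,5,6,8,9,12,13], [0,3,4,6,8,9], [2,4,8,9,10], [9,10,11], [5,6,8,10,13], [8,11,13], [11,12], [10], [12], [12,13]], [([1,0],[0,1,5,7,11]), ([1,1],[6,8,10,11]), ([2,0],[0,2,5,8,9,10]), ([2,1],[1,2,5,7,11]), ([2,2],[5,8,9,10]), ([3,0],[0,3,5,8,10]), ([3,1],[1,3,7]), ([3,2],[2,3,9,10,11]),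 ([3,3],[5,9,11]), ([4,0],[0,4,5,8,10,11]), ([4,1],[1,4,5,6,7,8,9,10,11]), ([4,2],[2,4,9]), ([4,3],[3,4,5]), ([4,4],[5,8,10,11]), ([5,0],[0,5,10]), ([5,1],[1,5,8,9])]),
    ([[0,1,2,3,5,7,9,10], [0,2,5,6,8,10,12,13], [0,1,2,3,4,6,7,12,13], [2,6,7,8,10], [7,12,13], [0,1,2,3,4,5,7], [8,13], [2,6,8,12], [11], [11,12], [13]], [[3,6,7,10,12,13], [2,6,11], [9,10,11,13], [3,5,6,8,9,10,11,12,13], [0,2,3,8,9], [5,6,9,11,13], [5,6,8,10,11,13], [5,6,8,10,13], [10,13], [10,12,13], [13]], [([0,0],[]), ([1,1],[]), ([2,2],[]), ([3,0],[0,3,9,10]), ([3,2],[2,3,9,10])])]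
  delta := [[], [], [], [], [(0,1), (29,1), (43,1)], [(14,1), (71,1)], [(0,1), (14,1), (57,1), (71,1)], [(0,1), (14,1), (15,1), (28,1), (29,1), (42,1), (43,1), (44,1), (57,1)], [(28,1), (29,1), (42,1), (44,1), (57,1), (71,1)], [(0,1), (14,1), (15,1), (28,1), (43,1)], [(42,1), (44,1)], [(14,1), (15,1), (28,1), (42,1), (43,1), (57,1)], [(14,1), (15,1), (28,1), (29,1), (43,1), (44,1), (71,1)], [(0,1), (14,1), (15,1), (28,1), (29,1), (43,1), (44,1), (71,1)]]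
  sels := [[[]],
    [[], []],
    [[], [], [(1,1), (5,1), (6,1), (9,1), (12,1), (13,1), (16,1), (19,1), (20,1), (23,1), (25,1), (27,1), (28,1), (34,1), (35,1), (37,1), (47,1), (48,1), (49,1), (54,1), (55,1), (57,1), (58,1), (59,1), (60,1), (62,1), (63,1), (64,1), (65,1), (67,1), (68,1), (72,1), (73,1), (75,1), (77,1), (78,1), (80,1), (82,1), (83,1), (84,1), (86,1), (87,1), (89,1), (92,1), (93,1), (94,1), (97,1), (100,1)]],
    [[], [], [], [(0,1), (1,1), (2,1), (3,1), (6,1), (8,1), (10,1), (12,1), (16,1), (17,1), (18,1), (20,1), (21,1), (23,1), (24,1), (31,1), (33,1), (34,1), (35,1), (37,1), (40,1), (41,1), (42,1), (45,1), (46,1), (48,1), (49,1), (53,1), (56,1), (58,1), (61,1), (62,1), (64,1), (67,1), (70,1), (72,1), (73,1), (74,1), (78,1), (79,1), (80,1), (83,1), (86,1), (87,1), (88,1), (89,1), (91,1), (92,1), (97,1), (98,1), (101,1), (102,1)]],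
    [[(1,1), (4,1), (5,1), (7,1), (11,1), (13,1), (14,1), (15,1), (16,1), (17,1), (19,1), (21,1), (23,1), (24,1), (25,1), (26,1), (27,1), (30,1), (31,1), (33,1), (34,1), (39,1), (42,1), (43,1), (44,1), (45,1), (46,1), (48,1), (49,1), (50,1), (51,1), (54,1), (56,1), (60,1), (61,1), (62,1), (63,1), (67,1), (68,1), (70,1), (78,1), (80,1), (85,1), (87,1), (88,1), (90,1), (91,1), (94,1), (95,1), (96,1), (97,1), (99,1)], [], [(1,1), (2,1), (4,1), (9,1), (17,1), (19,1), (21,1), (22,1), (23,1), (24,1), (25,1), (26,1), (27,1), (28,1), (29,1), (33,1), (36,1), (37,1), (41,1), (43,1), (45,1), (46,1), (47,1), (53,1), (54,1), (56,1), (57,1), (58,1), (62,1), (63,1), (65,1), (68,1), (69,1), (71,1), (72,1), (73,1), (74,1), (75,1), (78,1), (79,1), (81,1), (82,1), (83,1), (86,1), (87,1), (91,1), (92,1), (93,1), (94,1), (96,1), (97,1), (99,1), (100,1)], [(0,1), (1,1), (2,1), (3,1), (4,1), (7,1), (9,1), (10,1), (12,1),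 (14,1), (18,1), (19,1), (25,1), (26,1), (33,1), (35,1), (36,1), (40,1), (42,1), (48,1), (49,1), (50,1), (54,1), (55,1), (56,1), (59,1), (60,1), (61,1), (63,1), (64,1), (67,1), (68,1), (69,1), (70,1), (71,1), (72,1), (73,1), (75,1), (78,1), (81,1), (84,1), (91,1), (94,1), (95,1), (96,1), (97,1), (100,1)], [(4,1), (6,1), (7,1), (8,1), (10,1), (12,1), (14,1), (15,1), (16,1), (17,1), (19,1), (23,1), (25,1), (26,1), (29,1), (30,1), (31,1), (33,1), (35,1), (38,1), (39,1), (41,1), (42,1), (43,1), (46,1), (48,1), (49,1), (50,1), (51,1), (52,1), (53,1), (54,1), (56,1), (57,1), (58,1), (62,1), (65,1), (69,1), (70,1), (71,1), (75,1), (80,1), (81,1), (82,1), (83,1), (84,1), (85,1), (88,1), (91,1), (92,1), (93,1), (95,1), (96,1), (97,1), (99,1), (100,1), (101,1), (102,1)]],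
    [[(0,1), (1,1), (2,1), (3,1), (4,1), (5,1), (7,1), (9,1), (12,1), (14,1), (15,1), (19,1), (20,1), (21,1), (22,1), (23,1), (24,1), (25,1), (26,1), (31,1), (33,1), (34,1), (35,1), (38,1), (39,1), (40,1), (43,1), (44,1), (46,1), (47,1), (50,1), (52,1), (53,1), (54,1), (55,1), (56,1), (57,1), (59,1), (61,1), (62,1), (63,1), (64,1), (65,1), (66,1), (67,1), (68,1), (69,1), (70,1), (71,1), (73,1), (74,1), (75,1), (76,1), (80,1), (82,1), (84,1), (85,1), (86,1), (89,1), (94,1), (95,1), (97,1), (98,1), (101,1), (102,1)], [], [(0,1), (1,1), (2,1), (7,1), (9,1), (11,1), (12,1), (15,1), (17,1), (18,1), (22,1), (24,1), (29,1), (30,1), (31,1), (32,1), (37,1), (38,1), (40,1), (42,1), (43,1), (44,1), (46,1), (51,1), (52,1), (56,1), (57,1), (60,1), (61,1), (62,1), (63,1), (65,1), (68,1), (73,1), (74,1), (77,1), (78,1), (83,1), (85,1), (87,1), (92,1), (93,1), (95,1), (98,1), (99,1), (100,1), (101,1), (102,1)], [(0,1),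 (2,1), (3,1), (4,1), (7,1), (9,1), (10,1), (11,1), (14,1), (15,1), (17,1), (18,1), (20,1), (21,1), (22,1), (23,1), (26,1), (27,1), (30,1), (32,1), (36,1), (37,1), (40,1), (44,1), (46,1), (48,1), (54,1), (55,1), (56,1), (57,1), (60,1), (61,1), (62,1), (64,1), (66,1), (68,1), (69,1), (75,1), (77,1), (78,1), (80,1), (90,1), (95,1), (96,1), (97,1), (98,1), (99,1)], [(1,1), (2,1), (4,1), (6,1), (8,1), (9,1), (10,1), (11,1), (12,1), (13,1), (14,1), (18,1), (20,1), (21,1), (23,1), (25,1), (27,1), (29,1), (30,1), (32,1), (33,1), (34,1), (36,1), (37,1), (38,1), (39,1), (40,1), (42,1), (43,1), (44,1), (47,1), (49,1), (50,1), (51,1), (52,1), (54,1), (56,1), (59,1), (61,1), (62,1), (63,1), (70,1), (71,1), (72,1), (73,1), (74,1), (75,1), (76,1), (80,1), (81,1), (83,1), (84,1), (85,1), (86,1), (87,1), (92,1), (93,1), (95,1), (98,1), (99,1)], [(0,1), (3,1), (5,1), (7,1), (8,1), (9,1), (13,1), (16,1), (17,1), (19,1),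 (20,1), (22,1), (23,1), (24,1), (25,1), (27,1), (29,1), (30,1), (31,1), (32,1), (33,1), (34,1), (36,1), (38,1), (42,1), (43,1), (45,1), (48,1), (49,1), (51,1), (53,1), (56,1), (57,1), (59,1), (61,1), (62,1), (63,1), (67,1), (68,1), (70,1), (74,1), (76,1), (80,1), (83,1), (85,1), (87,1), (92,1), (93,1), (95,1), (98,1), (100,1), (101,1), (102,1)]],
    [[(0,1), (1,1), (5,1), (8,1), (9,1), (11,1), (13,1), (14,1), (16,1), (17,1), (20,1), (22,1), (23,1), (25,1), (30,1), (31,1), (34,1), (35,1), (36,1), (38,1), (39,1), (41,1), (43,1), (44,1), (45,1), (47,1), (50,1), (51,1), (57,1), (58,1), (59,1), (60,1), (61,1), (63,1), (65,1), (68,1), (69,1), (70,1), (71,1), (76,1), (78,1), (79,1), (81,1), (82,1), (83,1), (86,1), (87,1), (90,1), (91,1), (92,1), (93,1), (94,1), (95,1), (100,1)], [(0,1), (1,1), (10,1), (11,1), (12,1), (13,1), (18,1), (22,1), (23,1), (25,1), (26,1), (27,1), (29,1), (34,1), (35,1), (36,1),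 (37,1), (39,1), (40,1), (45,1), (46,1), (47,1), (48,1), (49,1), (50,1), (51,1), (55,1), (56,1), (57,1), (65,1), (66,1), (67,1), (69,1), (70,1), (72,1), (74,1), (77,1), (81,1), (82,1), (83,1), (84,1), (85,1), (86,1), (87,1), (88,1), (89,1), (90,1), (92,1), (94,1), (97,1)], [(2,1), (4,1), (7,1), (8,1), (11,1), (12,1), (14,1), (17,1), (21,1), (23,1), (25,1), (27,1), (29,1), (30,1), (32,1), (35,1), (36,1), (38,1), (43,1), (44,1), (45,1), (49,1), (51,1), (52,1), (55,1), (56,1), (58,1), (59,1), (61,1), (64,1), (66,1), (68,1), (71,1), (74,1), (75,1), (76,1), (77,1), (79,1), (80,1), (84,1), (89,1), (90,1), (91,1), (95,1), (97,1), (99,1)], [(3,1), (5,1), (6,1), (7,1), (8,1), (10,1), (11,1), (13,1), (15,1), (19,1), (21,1), (26,1), (27,1), (28,1), (29,1), (33,1), (34,1), (35,1), (36,1), (38,1), (41,1), (44,1), (45,1), (49,1), (50,1), (51,1), (59,1), (60,1), (61,1), (62,1), (67,1), (69,1), (70,1), (74,1), (75,1),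 (76,1), (77,1), (78,1), (80,1), (81,1), (82,1), (83,1), (85,1), (86,1), (87,1), (88,1), (91,1), (92,1), (94,1), (95,1), (99,1)], [(2,1), (3,1), (4,1), (5,1), (6,1), (7,1), (8,1), (9,1), (14,1), (15,1), (19,1), (21,1), (24,1), (25,1), (27,1), (28,1), (32,1), (33,1), (35,1), (36,1), (37,1), (38,1), (43,1), (45,1), (47,1), (48,1), (50,1), (52,1), (53,1), (55,1), (60,1), (62,1), (64,1), (66,1), (67,1), (69,1), (73,1), (76,1), (78,1), (79,1), (81,1), (82,1), (84,1), (85,1), (86,1), (89,1), (90,1), (94,1), (96,1), (98,1), (99,1), (101,1), (102,1)], [(0,1), (1,1), (2,1), (5,1), (6,1), (7,1), (8,1), (14,1), (15,1), (19,1), (20,1), (21,1), (24,1), (26,1), (27,1), (28,1), (29,1), (30,1), (31,1), (34,1), (35,1), (36,1), (37,1), (38,1), (41,1), (44,1), (45,1), (50,1), (51,1), (54,1), (55,1), (56,1), (57,1), (58,1), (59,1), (60,1), (62,1), (63,1), (65,1), (66,1), (68,1), (71,1), (75,1), (77,1), (81,1), (82,1),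 (84,1), (85,1), (91,1), (94,1), (95,1), (96,1), (97,1), (98,1), (100,1)], [(0,1), (1,1), (3,1), (5,1), (7,1), (8,1), (9,1), (10,1), (13,1), (20,1), (21,1), (22,1), (24,1), (28,1), (29,1), (33,1), (37,1), (40,1), (43,1), (44,1), (46,1), (48,1), (51,1), (52,1), (53,1), (54,1), (55,1), (66,1), (68,1), (69,1), (70,1), (71,1), (72,1), (77,1), (79,1), (80,1), (81,1), (84,1), (89,1), (90,1), (91,1), (95,1), (97,1)]],
    [[(1,1), (2,1), (4,1), (5,1), (8,1), (9,1), (11,1), (14,1), (15,1), (18,1), (19,1), (20,1), (21,1), (23,1), (32,1), (34,1), (35,1), (38,1), (41,1), (42,1), (43,1), (44,1), (45,1), (47,1), (50,1), (51,1), (53,1), (54,1), (56,1), (58,1), (59,1), (65,1), (66,1), (69,1), (72,1), (73,1), (76,1), (77,1), (79,1), (80,1), (81,1), (83,1), (84,1), (85,1), (86,1), (87,1), (89,1), (91,1), (92,1), (93,1), (94,1), (95,1), (97,1), (98,1), (99,1), (101,1), (102,1)], [(1,1), (3,1), (5,1), (7,1), (8,1), (9,1),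 (11,1), (12,1), (14,1), (16,1), (18,1), (19,1), (21,1), (22,1), (23,1), (26,1), (27,1), (28,1), (30,1), (31,1), (35,1), (36,1), (37,1), (39,1), (41,1), (42,1), (44,1), (45,1), (51,1), (57,1), (58,1), (59,1), (61,1), (62,1), (63,1), (64,1), (66,1), (67,1), (68,1), (70,1), (71,1), (72,1), (73,1), (75,1), (80,1), (81,1), (82,1), (83,1), (85,1), (86,1), (88,1), (90,1), (92,1), (93,1), (95,1), (100,1), (101,1), (102,1)], [(0,1), (3,1), (6,1), (7,1), (8,1), (10,1), (11,1), (13,1), (15,1), (17,1), (18,1), (19,1), (20,1), (22,1), (23,1), (24,1), (29,1), (32,1), (33,1), (35,1), (37,1), (38,1), (40,1), (41,1), (45,1), (48,1), (49,1), (50,1), (56,1), (57,1), (64,1), (65,1), (67,1), (68,1), (70,1), (71,1), (72,1), (73,1), (74,1), (75,1), (77,1), (78,1), (79,1), (80,1), (81,1), (82,1), (85,1), (86,1), (89,1), (95,1), (96,1), (98,1)], [(0,1), (1,1), (2,1), (3,1), (6,1), (7,1), (9,1), (13,1), (14,1), (17,1), (18,1),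 (19,1), (21,1), (25,1), (26,1), (27,1), (31,1), (33,1), (35,1), (41,1), (43,1), (45,1), (49,1), (51,1), (52,1), (55,1), (56,1), (57,1), (58,1), (61,1), (63,1), (64,1), (67,1), (70,1), (71,1), (74,1), (77,1), (81,1), (82,1), (83,1), (84,1), (89,1), (91,1), (92,1), (94,1), (95,1), (97,1), (98,1), (99,1), (100,1)], [(2,1), (3,1), (4,1), (5,1), (6,1), (7,1), (8,1), (11,1), (13,1), (16,1), (19,1), (20,1), (21,1), (22,1), (27,1), (29,1), (30,1), (31,1), (34,1), (35,1), (37,1), (41,1), (42,1), (43,1), (46,1), (53,1), (55,1), (58,1), (61,1), (64,1), (69,1), (71,1), (72,1), (73,1), (76,1), (77,1), (78,1), (80,1), (83,1), (85,1), (89,1), (90,1), (92,1), (95,1), (97,1), (98,1), (101,1), (102,1)], [(0,1), (3,1), (5,1), (8,1), (10,1), (11,1), (12,1), (14,1), (17,1), (18,1), (20,1), (24,1), (26,1), (27,1), (28,1), (30,1), (32,1), (33,1), (34,1), (39,1), (40,1), (41,1), (44,1), (45,1), (46,1), (47,1), (48,1), (49,1),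 (51,1), (52,1), (53,1), (54,1), (58,1), (60,1), (66,1), (71,1), (72,1), (74,1), (82,1), (84,1), (87,1), (88,1), (89,1), (91,1), (94,1), (95,1), (96,1), (100,1), (101,1), (102,1)], [(0,1), (1,1), (4,1), (5,1), (7,1), (8,1), (14,1), (16,1), (17,1), (18,1), (20,1), (21,1), (22,1), (23,1), (27,1), (28,1), (29,1), (30,1), (32,1), (39,1), (41,1), (42,1), (46,1), (50,1), (52,1), (54,1), (57,1), (59,1), (60,1), (61,1), (62,1), (63,1), (64,1), (65,1), (66,1), (69,1), (70,1), (71,1), (76,1), (83,1), (88,1), (89,1), (90,1), (92,1), (93,1), (96,1), (98,1), (100,1)], [(4,1), (6,1), (7,1), (8,1), (15,1), (17,1), (18,1), (21,1), (23,1), (24,1), (27,1), (31,1), (32,1), (34,1), (36,1), (37,1), (38,1), (39,1), (41,1), (46,1), (52,1), (55,1), (58,1), (61,1), (63,1), (68,1), (70,1), (71,1), (74,1), (76,1), (77,1), (78,1), (86,1), (87,1), (91,1), (93,1), (95,1)]],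
    [[(0,1), (1,1), (2,1), (5,1), (8,1), (9,1), (15,1), (21,1), (23,1), (24,1), (29,1), (31,1), (35,1), (36,1), (42,1), (45,1), (49,1), (54,1), (55,1), (56,1), (60,1), (61,1), (62,1), (63,1), (65,1), (66,1), (67,1), (68,1), (70,1), (71,1), (72,1), (75,1), (76,1), (78,1), (82,1), (86,1), (88,1), (91,1), (93,1), (94,1), (98,1), (100,1), (101,1), (102,1)], [(3,1), (4,1), (7,1), (11,1), (13,1), (16,1), (22,1), (25,1), (27,1), (28,1), (29,1), (32,1), (33,1), (34,1), (35,1), (36,1), (37,1), (38,1), (40,1), (41,1), (43,1), (44,1), (45,1), (48,1), (49,1), (50,1), (51,1), (52,1), (54,1), (56,1), (57,1), (60,1), (61,1), (64,1), (67,1), (69,1), (70,1), (77,1), (78,1), (82,1), (84,1), (86,1), (87,1), (88,1), (89,1), (91,1), (95,1), (97,1), (98,1), (101,1), (102,1)], [(0,1), (1,1), (4,1), (5,1), (8,1), (9,1), (16,1), (17,1), (18,1), (19,1), (20,1), (22,1), (26,1), (28,1), (29,1), (30,1), (35,1), (36,1), (39,1),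 (40,1), (41,1), (45,1), (47,1), (49,1), (50,1), (51,1), (53,1), (54,1), (58,1), (59,1), (61,1), (62,1), (64,1), (67,1), (70,1), (71,1), (72,1), (74,1), (76,1), (77,1), (78,1), (79,1), (80,1), (81,1), (83,1), (86,1), (87,1), (88,1), (89,1), (90,1), (91,1), (92,1), (95,1), (96,1), (98,1), (100,1)], [(0,1), (1,1), (4,1), (9,1), (10,1), (13,1), (14,1), (15,1), (16,1), (17,1), (22,1), (23,1), (24,1), (25,1), (26,1), (27,1), (28,1), (29,1), (30,1), (31,1), (33,1), (34,1), (36,1), (39,1), (40,1), (41,1), (45,1), (47,1), (48,1), (50,1), (51,1), (52,1), (54,1), (56,1), (58,1), (60,1), (62,1), (63,1), (64,1), (66,1), (69,1), (72,1), (73,1), (74,1), (75,1), (76,1), (77,1), (81,1), (83,1), (85,1), (87,1), (90,1), (92,1), (93,1), (96,1), (97,1), (100,1), (101,1), (102,1)], [(1,1), (2,1), (3,1), (5,1), (8,1), (9,1), (10,1), (11,1), (12,1), (18,1), (19,1), (20,1), (24,1), (26,1), (27,1), (33,1), (34,1), (36,1), (46,1),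 (48,1), (51,1), (52,1), (53,1), (55,1), (57,1), (58,1), (63,1), (65,1), (66,1), (67,1), (69,1), (70,1), (71,1), (73,1), (75,1), (77,1), (79,1), (80,1), (84,1), (89,1), (91,1), (96,1), (98,1)], [(1,1), (2,1), (6,1), (7,1), (8,1), (9,1), (14,1), (16,1), (17,1), (18,1), (21,1), (24,1), (25,1), (29,1), (31,1), (32,1), (33,1), (34,1), (35,1), (37,1), (41,1), (44,1), (46,1), (47,1), (48,1), (50,1), (53,1), (55,1), (59,1), (61,1), (62,1), (73,1), (75,1), (77,1), (78,1), (80,1), (81,1), (82,1), (86,1), (88,1), (91,1), (93,1), (94,1), (98,1), (100,1), (101,1), (102,1)], [(1,1), (6,1), (7,1), (14,1), (16,1), (17,1), (19,1), (20,1), (22,1), (23,1), (24,1), (25,1), (26,1), (27,1), (29,1), (31,1), (32,1), (33,1), (34,1), (36,1), (37,1), (38,1), (41,1), (42,1), (45,1), (48,1), (49,1), (50,1), (53,1), (54,1), (55,1), (58,1), (61,1), (62,1), (63,1), (66,1), (69,1), (71,1), (72,1), (73,1), (76,1), (79,1), (80,1), (83,1),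 (86,1), (87,1), (88,1), (89,1), (90,1), (91,1), (92,1), (95,1), (96,1), (98,1), (100,1)], [(0,1), (7,1), (8,1), (9,1), (16,1), (17,1), (18,1), (19,1), (20,1), (21,1), (22,1), (25,1), (28,1), (29,1), (31,1), (33,1), (34,1), (36,1), (37,1), (38,1), (42,1), (45,1), (49,1), (50,1), (51,1), (52,1), (61,1), (63,1), (64,1), (67,1), (70,1), (71,1), (73,1), (74,1), (76,1), (77,1), (80,1)], [(1,1), (2,1), (3,1), (6,1), (8,1), (9,1), (11,1), (12,1), (13,1), (16,1), (18,1), (20,1), (22,1), (30,1), (31,1), (32,1), (37,1), (38,1), (42,1), (44,1), (48,1), (50,1), (51,1), (52,1), (53,1), (54,1), (55,1), (58,1), (59,1), (61,1), (63,1), (64,1), (65,1), (66,1), (67,1), (68,1), (69,1), (71,1), (74,1), (76,1), (78,1)]],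
    [[(2,1), (5,1), (7,1), (18,1), (21,1), (22,1), (23,1), (26,1), (27,1), (28,1), (30,1), (32,1), (34,1), (36,1), (37,1), (39,1), (40,1), (41,1), (42,1), (46,1), (47,1), (50,1), (51,1), (54,1), (56,1), (59,1), (62,1), (64,1), (65,1), (67,1), (71,1), (72,1), (75,1), (76,1), (78,1), (79,1), (80,1), (82,1), (83,1), (84,1), (85,1), (86,1), (87,1), (88,1), (89,1), (90,1), (92,1), (94,1), (97,1)], [(0,1), (3,1), (5,1), (6,1), (7,1), (8,1), (9,1), (10,1), (11,1), (12,1), (16,1), (21,1), (23,1), (28,1), (29,1), (31,1), (34,1), (35,1), (37,1), (38,1), (39,1), (42,1), (43,1), (44,1), (47,1), (49,1), (50,1), (53,1), (54,1), (55,1), (56,1), (57,1), (61,1), (62,1), (63,1), (64,1), (65,1), (66,1), (68,1), (69,1), (70,1), (71,1), (74,1), (76,1), (78,1), (79,1), (80,1), (82,1), (84,1), (86,1), (88,1), (91,1), (93,1), (96,1), (97,1), (100,1), (101,1), (102,1)], [(1,1), (2,1), (4,1), (13,1), (15,1), (16,1), (20,1),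 (23,1), (30,1), (31,1), (36,1), (38,1), (40,1), (42,1), (45,1), (47,1), (48,1), (52,1), (53,1), (56,1), (57,1), (58,1), (60,1), (66,1), (68,1), (75,1), (76,1), (79,1), (80,1), (81,1), (82,1), (84,1), (86,1), (88,1), (89,1), (93,1), (94,1), (96,1), (100,1), (101,1), (102,1)], [(0,1), (2,1), (3,1), (5,1), (7,1), (8,1), (10,1), (11,1), (12,1), (14,1), (15,1), (18,1), (19,1), (23,1), (25,1), (28,1), (29,1), (31,1), (38,1), (39,1), (42,1), (44,1), (46,1), (49,1), (50,1), (52,1), (54,1), (55,1), (57,1), (59,1), (60,1), (62,1), (64,1), (65,1), (66,1), (67,1), (69,1), (70,1), (72,1), (73,1), (74,1), (78,1), (81,1), (83,1), (85,1), (87,1), (90,1), (92,1), (93,1), (96,1), (97,1), (100,1), (101,1), (102,1)], [(0,1), (1,1), (4,1), (6,1), (8,1), (9,1), (13,1), (14,1), (15,1), (17,1), (19,1), (21,1), (22,1), (25,1), (28,1), (33,1), (34,1), (35,1), (37,1), (41,1), (51,1), (52,1), (60,1), (62,1), (63,1), (64,1), (65,1),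 (68,1), (69,1), (71,1), (74,1), (77,1), (78,1), (83,1), (84,1), (86,1), (87,1), (88,1), (90,1), (92,1), (95,1), (100,1)], [(1,1), (2,1), (6,1), (7,1), (8,1), (10,1), (14,1), (17,1), (18,1), (19,1), (20,1), (21,1), (22,1), (27,1), (29,1), (30,1), (31,1), (33,1), (34,1), (35,1), (37,1), (38,1), (40,1), (41,1), (44,1), (45,1), (48,1), (49,1), (50,1), (51,1), (53,1), (55,1), (58,1), (61,1), (63,1), (64,1), (66,1), (68,1), (69,1), (71,1), (73,1), (74,1), (75,1), (76,1), (77,1), (78,1), (82,1), (86,1), (88,1), (91,1), (93,1), (94,1), (98,1), (100,1), (101,1), (102,1)], [(0,1), (2,1), (3,1), (9,1), (11,1), (12,1), (13,1), (14,1), (15,1), (16,1), (22,1), (23,1), (24,1), (26,1), (29,1), (30,1), (34,1), (35,1), (36,1), (37,1), (38,1), (40,1), (41,1), (45,1), (46,1), (48,1), (49,1), (50,1), (54,1), (55,1), (58,1), (59,1), (60,1), (61,1), (62,1), (65,1), (66,1), (68,1), (71,1), (72,1), (73,1), (75,1), (76,1),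 (79,1), (80,1), (83,1), (86,1), (87,1), (88,1), (89,1), (90,1), (91,1), (92,1), (95,1), (96,1), (98,1), (100,1)], [(0,1), (2,1), (3,1), (4,1), (6,1), (11,1), (12,1), (13,1), (16,1), (17,1), (20,1), (21,1), (23,1), (24,1), (25,1), (28,1), (39,1), (41,1), (42,1), (45,1), (51,1), (52,1), (54,1), (56,1), (59,1), (62,1), (63,1), (65,1), (66,1), (68,1), (72,1), (76,1), (77,1), (80,1), (83,1), (86,1), (87,1), (88,1), (89,1), (90,1), (91,1), (92,1), (95,1), (96,1), (98,1), (100,1)], [(0,1), (1,1), (5,1), (6,1), (7,1), (8,1), (9,1), (10,1), (14,1), (16,1), (17,1), (22,1), (24,1), (27,1), (28,1), (29,1), (30,1), (31,1), (33,1), (35,1), (37,1), (38,1), (39,1), (40,1), (41,1), (42,1), (46,1), (49,1), (50,1), (52,1), (53,1), (56,1), (57,1), (58,1), (59,1), (62,1), (63,1), (64,1), (67,1), (69,1), (72,1), (74,1), (76,1), (78,1), (79,1), (80,1), (81,1), (83,1), (86,1), (87,1), (88,1), (89,1), (90,1), (91,1), (92,1),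 (95,1), (96,1), (98,1), (100,1)], [(0,1), (4,1), (5,1), (9,1), (16,1), (20,1), (21,1), (23,1), (26,1), (27,1), (28,1), (29,1), (31,1), (32,1), (34,1), (38,1), (39,1), (42,1), (44,1), (45,1), (46,1), (47,1), (48,1), (53,1), (58,1), (61,1), (63,1), (64,1), (66,1), (68,1), (69,1), (71,1), (74,1), (78,1), (80,1), (81,1)]],
    [[(0,1), (1,1), (2,1), (4,1), (5,1), (8,1), (9,1), (14,1), (15,1), (16,1), (24,1), (25,1), (26,1), (34,1), (35,1), (38,1), (40,1), (42,1), (44,1), (47,1), (48,1), (50,1), (52,1), (53,1), (54,1), (56,1), (58,1), (59,1), (60,1), (65,1), (68,1), (69,1), (70,1), (71,1), (72,1), (75,1), (76,1), (77,1), (81,1), (82,1), (86,1), (88,1), (91,1), (93,1), (94,1), (98,1), (100,1), (101,1), (102,1)], [(0,1), (1,1), (3,1), (5,1), (6,1), (8,1), (10,1), (11,1), (12,1), (14,1), (19,1), (20,1), (23,1), (25,1), (26,1), (27,1), (30,1), (31,1), (34,1), (38,1), (40,1), (41,1), (42,1), (43,1), (48,1),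 (52,1), (54,1), (55,1), (56,1), (59,1), (60,1), (62,1), (63,1), (64,1), (65,1), (67,1), (70,1), (71,1), (72,1), (73,1), (74,1), (75,1), (77,1), (80,1), (81,1), (82,1), (83,1), (84,1), (87,1), (90,1), (91,1), (92,1), (93,1), (94,1), (95,1), (98,1), (101,1), (102,1)], [(1,1), (2,1), (4,1), (10,1), (14,1), (15,1), (16,1), (17,1), (18,1), (21,1), (27,1), (29,1), (34,1), (38,1), (39,1), (45,1), (48,1), (50,1), (52,1), (53,1), (58,1), (60,1), (61,1), (62,1), (64,1), (65,1), (67,1), (68,1), (69,1), (70,1), (71,1), (74,1), (75,1), (76,1), (77,1), (80,1), (81,1), (82,1), (86,1), (88,1), (91,1), (93,1), (94,1), (98,1), (100,1), (101,1), (102,1)], [(6,1), (7,1), (8,1), (14,1), (15,1), (19,1), (22,1), (24,1), (25,1), (26,1), (28,1), (32,1), (35,1), (44,1), (46,1), (49,1), (50,1), (51,1), (53,1), (55,1), (56,1), (59,1), (60,1), (62,1), (63,1), (64,1), (65,1), (66,1), (67,1), (68,1), (71,1), (72,1), (75,1), (78,1),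 (81,1)], [(0,1), (5,1), (10,1), (14,1), (15,1), (18,1), (19,1), (20,1), (21,1), (22,1), (24,1), (25,1), (26,1), (29,1), (31,1), (32,1), (39,1), (40,1), (42,1), (46,1), (47,1), (49,1), (51,1), (52,1), (53,1), (58,1), (60,1), (61,1), (64,1), (65,1), (66,1), (68,1), (72,1), (76,1), (78,1)], [(0,1), (1,1), (4,1), (7,1), (9,1), (10,1), (14,1), (15,1), (18,1), (21,1), (22,1), (23,1), (24,1), (25,1), (27,1), (31,1), (33,1), (34,1), (37,1), (38,1), (39,1), (41,1), (42,1), (44,1), (45,1), (47,1), (50,1), (51,1), (52,1), (57,1), (60,1), (61,1), (68,1), (70,1), (73,1), (74,1), (76,1), (78,1), (79,1), (81,1), (83,1), (86,1), (87,1), (88,1), (89,1), (90,1), (91,1), (92,1), (95,1), (96,1), (98,1), (100,1)], [(2,1), (3,1), (4,1), (5,1), (8,1), (10,1), (11,1), (12,1), (13,1), (18,1), (19,1), (23,1), (24,1), (26,1), (27,1), (28,1), (29,1), (30,1), (36,1), (38,1), (39,1), (41,1), (44,1), (45,1), (46,1), (47,1), (48,1),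 (49,1), (53,1), (55,1), (58,1), (59,1), (61,1), (64,1), (68,1), (70,1), (72,1), (74,1), (75,1), (77,1), (78,1), (79,1), (83,1), (86,1), (87,1), (88,1), (89,1), (90,1), (91,1), (92,1), (95,1), (96,1), (98,1), (100,1)], [(2,1), (3,1), (4,1), (5,1), (6,1), (7,1), (9,1), (10,1), (11,1), (12,1), (13,1), (14,1), (17,1), (18,1), (19,1), (22,1), (25,1), (26,1), (29,1), (33,1), (35,1), (36,1), (38,1), (39,1), (40,1), (41,1), (42,1), (44,1), (47,1), (49,1), (50,1), (51,1), (53,1), (56,1), (57,1), (58,1), (62,1), (66,1), (67,1), (68,1), (69,1), (70,1), (71,1), (72,1), (76,1), (77,1), (78,1), (79,1), (81,1), (83,1), (86,1), (87,1), (88,1), (89,1), (90,1), (91,1), (92,1), (95,1), (96,1), (98,1), (100,1)], [(5,1), (6,1), (7,1), (9,1), (14,1), (15,1), (22,1), (23,1), (24,1), (30,1), (32,1), (33,1), (36,1), (38,1), (39,1), (40,1), (41,1), (42,1), (44,1), (45,1), (46,1), (48,1), (49,1), (51,1), (52,1), (54,1), (59,1),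 (60,1), (61,1), (62,1), (63,1), (65,1), (67,1), (68,1), (69,1), (72,1), (73,1), (74,1), (76,1), (77,1), (81,1)], [(0,1), (4,1), (6,1), (8,1), (15,1), (18,1), (20,1), (24,1), (26,1), (28,1), (31,1), (33,1), (34,1), (35,1), (36,1), (37,1), (38,1), (39,1), (40,1), (44,1), (46,1), (48,1), (49,1), (50,1), (51,1), (55,1), (58,1), (60,1), (61,1), (62,1), (67,1), (69,1), (73,1), (74,1), (75,1), (76,1), (77,1), (78,1), (80,1)], [(1,1), (2,1), (3,1), (4,1), (5,1), (9,1), (10,1), (11,1), (12,1), (13,1), (14,1), (15,1), (16,1), (17,1), (19,1), (24,1), (25,1), (28,1), (30,1), (31,1), (32,1), (33,1), (34,1), (35,1), (36,1), (37,1), (38,1), (40,1), (46,1), (50,1), (54,1), (56,1), (57,1), (60,1), (63,1), (64,1), (65,1), (66,1), (67,1), (69,1), (70,1), (72,1), (73,1), (75,1), (76,1), (81,1)]],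
    [[(1,1), (2,1), (5,1), (6,1), (9,1), (10,1), (14,1), (18,1), (20,1), (21,1), (22,1), (23,1), (28,1), (29,1), (33,1), (34,1), (41,1), (45,1), (46,1), (47,1), (48,1), (49,1), (50,1), (51,1), (53,1), (54,1), (57,1), (59,1), (63,1), (64,1), (65,1), (72,1), (74,1), (76,1), (77,1), (80,1), (81,1), (82,1), (86,1), (88,1), (91,1), (93,1), (94,1), (98,1), (100,1), (101,1), (102,1)], [(0,1), (1,1), (3,1), (4,1), (5,1), (7,1), (9,1), (10,1), (11,1), (12,1), (13,1), (14,1), (15,1), (16,1), (18,1), (23,1), (24,1), (27,1), (28,1), (29,1), (30,1), (34,1), (35,1), (37,1), (38,1), (39,1), (40,1), (41,1), (43,1), (44,1), (46,1), (48,1), (49,1), (50,1), (51,1), (54,1), (55,1), (57,1), (59,1), (68,1), (71,1), (72,1), (73,1), (74,1), (76,1), (78,1), (79,1), (80,1), (81,1), (82,1), (83,1), (87,1), (89,1), (90,1), (92,1), (93,1), (94,1), (95,1), (96,1), (101,1), (102,1)], [(0,1), (1,1), (4,1), (5,1), (6,1), (7,1), (9,1),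 (14,1), (16,1), (17,1), (18,1), (19,1), (20,1), (23,1), (24,1), (25,1), (26,1), (28,1), (29,1), (31,1), (33,1), (34,1), (37,1), (39,1), (40,1), (41,1), (44,1), (45,1), (48,1), (50,1), (54,1), (59,1), (61,1), (63,1), (64,1), (67,1), (69,1), (74,1), (77,1), (79,1), (80,1), (81,1), (83,1), (86,1), (87,1), (88,1), (89,1), (90,1), (91,1), (92,1), (95,1), (96,1), (98,1), (100,1)], [(0,1), (2,1), (3,1), (4,1), (5,1), (8,1), (9,1), (11,1), (12,1), (13,1), (16,1), (19,1), (20,1), (23,1), (26,1), (27,1), (28,1), (29,1), (31,1), (33,1), (34,1), (37,1), (39,1), (48,1), (51,1), (52,1), (53,1), (56,1), (58,1), (62,1), (63,1), (66,1), (67,1), (68,1), (69,1), (71,1), (73,1), (76,1), (77,1), (78,1), (79,1), (81,1), (83,1), (86,1), (87,1), (88,1), (89,1), (90,1), (91,1), (92,1), (95,1), (96,1), (98,1), (100,1)], [(0,1), (1,1), (2,1), (3,1), (6,1), (8,1), (11,1), (12,1), (13,1), (15,1), (17,1), (18,1), (19,1), (20,1),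 (23,1), (28,1), (34,1), (37,1), (38,1), (40,1), (41,1), (45,1), (46,1), (47,1), (50,1), (51,1), (54,1), (55,1), (59,1), (60,1), (61,1), (62,1), (63,1), (67,1), (69,1), (71,1), (72,1), (74,1), (76,1), (78,1)], [(2,1), (3,1), (5,1), (7,1), (11,1), (12,1), (13,1), (14,1), (16,1), (18,1), (19,1), (20,1), (21,1), (22,1), (23,1), (25,1), (28,1), (30,1), (32,1), (34,1), (35,1), (36,1), (37,1), (41,1), (42,1), (44,1), (46,1), (47,1), (50,1), (51,1), (52,1), (54,1), (59,1), (61,1), (62,1), (63,1), (65,1), (66,1), (70,1), (71,1), (76,1), (77,1), (78,1), (79,1), (80,1), (81,1), (83,1), (86,1), (87,1), (88,1), (89,1), (90,1), (91,1), (92,1), (95,1), (96,1), (98,1), (100,1)], [(2,1), (3,1), (4,1), (7,1), (9,1), (11,1), (12,1), (13,1), (15,1), (16,1), (20,1), (22,1), (23,1), (25,1), (26,1), (29,1), (32,1), (33,1), (34,1), (35,1), (37,1), (38,1), (40,1), (46,1), (50,1), (54,1), (55,1), (57,1), (58,1), (60,1), (62,1),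 (66,1), (68,1), (69,1), (70,1), (72,1), (73,1), (76,1), (77,1), (79,1), (83,1), (86,1), (87,1), (88,1), (89,1), (90,1), (91,1), (92,1), (95,1), (96,1), (98,1), (100,1)], [(4,1), (9,1), (10,1), (15,1), (16,1), (19,1), (20,1), (23,1), (24,1), (26,1), (27,1), (28,1), (30,1), (31,1), (32,1), (34,1), (35,1), (36,1), (37,1), (38,1), (39,1), (41,1), (46,1), (48,1), (49,1), (50,1), (51,1), (52,1), (54,1), (55,1), (56,1), (60,1), (65,1), (67,1), (69,1), (70,1), (73,1), (75,1), (77,1)], [(0,1), (5,1), (6,1), (9,1), (14,1), (15,1), (16,1), (17,1), (19,1), (22,1), (23,1), (24,1), (28,1), (30,1), (31,1), (32,1), (33,1), (38,1), (39,1), (42,1), (45,1), (46,1), (49,1), (50,1), (52,1), (53,1), (54,1), (58,1), (59,1), (60,1), (62,1), (64,1), (66,1), (67,1), (68,1), (70,1), (71,1), (73,1), (76,1), (77,1), (81,1)], [(4,1), (6,1), (14,1), (15,1), (16,1), (19,1), (20,1), (21,1), (22,1), (24,1), (25,1), (26,1), (27,1),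 (28,1), (29,1), (30,1), (32,1), (33,1), (38,1), (40,1), (44,1), (45,1), (47,1), (48,1), (49,1), (51,1), (54,1), (58,1), (60,1), (61,1), (62,1), (68,1), (70,1), (73,1), (75,1), (76,1), (78,1)], [(1,1), (2,1), (3,1), (7,1), (9,1), (11,1), (12,1), (13,1), (14,1), (15,1), (16,1), (19,1), (20,1), (24,1), (28,1), (30,1), (31,1), (32,1), (33,1), (35,1), (39,1), (40,1), (42,1), (44,1), (45,1), (46,1), (47,1), (48,1), (49,1), (52,1), (53,1), (54,1), (58,1), (60,1), (62,1), (63,1), (64,1), (66,1), (69,1), (70,1), (73,1), (75,1), (77,1), (80,1)], [(0,1), (6,1), (7,1), (9,1), (14,1), (15,1), (16,1), (17,1), (18,1), (19,1), (23,1), (25,1), (27,1), (28,1), (31,1), (32,1), (33,1), (36,1), (37,1), (38,1), (41,1), (42,1), (44,1), (47,1), (48,1), (49,1), (51,1), (52,1), (54,1), (56,1), (57,1), (59,1), (60,1), (61,1), (62,1), (63,1), (64,1), (65,1), (66,1), (67,1), (70,1), (73,1), (74,1), (75,1), (76,1), (77,1), (80,1),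 (81,1)]],
    [[(1,1), (2,1), (3,1), (4,1), (5,1), (6,1), (7,1), (8,1), (9,1), (10,1), (11,1), (12,1), (13,1), (14,1), (15,1), (16,1), (19,1), (20,1), (22,1), (23,1), (25,1), (27,1), (28,1), (32,1), (34,1), (37,1), (39,1), (40,1), (41,1), (44,1), (45,1), (46,1), (47,1), (48,1), (49,1), (51,1), (53,1), (54,1), (58,1), (59,1), (60,1), (65,1), (66,1), (68,1), (70,1), (71,1), (72,1), (73,1), (74,1), (76,1), (77,1), (78,1), (80,1)], [(4,1), (6,1), (7,1), (14,1), (20,1), (21,1), (22,1), (23,1), (25,1), (28,1), (29,1), (30,1), (31,1), (32,1), (34,1), (36,1), (37,1), (38,1), (40,1), (44,1), (45,1), (47,1), (51,1), (53,1), (54,1), (56,1), (59,1), (63,1), (66,1), (68,1), (72,1), (73,1), (75,1), (78,1), (80,1), (81,1)], [(4,1), (5,1), (6,1), (8,1), (9,1), (17,1), (20,1), (22,1), (23,1), (25,1), (27,1), (28,1), (31,1), (32,1), (33,1), (34,1), (35,1), (37,1), (40,1), (41,1), (42,1), (45,1), (46,1), (47,1), (51,1),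 (53,1), (62,1), (64,1), (65,1), (66,1), (71,1), (72,1), (73,1), (77,1), (78,1), (81,1)], [(0,1), (1,1), (2,1), (3,1), (6,1), (11,1), (12,1), (13,1), (16,1), (18,1), (20,1), (23,1), (24,1), (25,1), (26,1), (28,1), (30,1), (32,1), (34,1), (35,1), (38,1), (39,1), (44,1), (45,1), (46,1), (47,1), (51,1), (55,1), (58,1), (59,1), (62,1), (65,1), (68,1), (69,1), (70,1), (76,1), (77,1), (81,1)], [(0,1), (1,1), (2,1), (3,1), (5,1), (6,1), (7,1), (11,1), (12,1), (13,1), (15,1), (19,1), (20,1), (26,1), (28,1), (30,1), (31,1), (32,1), (34,1), (35,1), (44,1), (53,1), (58,1), (60,1), (61,1), (64,1), (65,1), (66,1), (71,1), (73,1), (74,1), (77,1), (80,1)], [(0,1), (6,1), (8,1), (10,1), (15,1), (16,1), (19,1), (20,1), (21,1), (23,1), (24,1), (25,1), (26,1), (28,1), (29,1), (31,1), (32,1), (35,1), (38,1), (40,1), (42,1), (44,1), (50,1), (53,1), (56,1), (58,1), (60,1), (63,1), (64,1), (66,1), (67,1), (69,1), (70,1),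 (73,1), (74,1), (75,1), (80,1)], [(0,1), (5,1), (6,1), (7,1), (8,1), (9,1), (16,1), (17,1), (18,1), (19,1), (21,1), (24,1), (25,1), (26,1), (27,1), (28,1), (29,1), (30,1), (31,1), (32,1), (35,1), (37,1), (41,1), (42,1), (44,1), (47,1), (49,1), (51,1), (55,1), (58,1), (62,1), (66,1), (67,1), (70,1), (72,1), (75,1), (77,1), (80,1)], [(4,1), (5,1), (6,1), (8,1), (15,1), (16,1), (19,1), (21,1), (23,1), (26,1), (27,1), (28,1), (29,1), (30,1), (31,1), (33,1), (34,1), (35,1), (36,1), (38,1), (41,1), (45,1), (48,1), (49,1), (50,1), (51,1), (52,1), (55,1), (56,1), (60,1), (61,1), (62,1), (64,1), (65,1), (69,1), (71,1), (74,1), (75,1), (76,1), (77,1), (81,1)], [(0,1), (1,1), (2,1), (3,1), (5,1), (7,1), (8,1), (10,1), (11,1), (12,1), (13,1), (14,1), (18,1), (19,1), (22,1), (24,1), (30,1), (32,1), (34,1), (36,1), (40,1), (42,1), (44,1), (46,1), (47,1), (48,1), (50,1), (51,1), (55,1), (56,1), (57,1), (58,1), (59,1),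 (62,1), (65,1), (67,1), (70,1), (73,1), (75,1), (76,1), (77,1), (78,1)], [(1,1), (2,1), (3,1), (4,1), (5,1), (6,1), (9,1), (11,1), (12,1), (13,1), (16,1), (20,1), (22,1), (23,1), (24,1), (25,1), (30,1), (32,1), (34,1), (35,1), (36,1), (38,1), (41,1), (42,1), (44,1), (46,1), (47,1), (50,1), (52,1), (53,1), (61,1), (62,1), (63,1), (64,1), (65,1), (66,1), (68,1), (70,1), (71,1), (73,1), (74,1), (75,1), (76,1), (77,1), (81,1)], [(0,1), (1,1), (2,1), (3,1), (4,1), (8,1), (10,1), (11,1), (12,1), (13,1), (14,1), (15,1), (16,1), (18,1), (19,1), (20,1), (21,1), (25,1), (26,1), (28,1), (29,1), (30,1), (31,1), (32,1), (34,1), (36,1), (38,1), (40,1), (42,1), (44,1), (46,1), (47,1), (56,1), (57,1), (60,1), (61,1), (63,1), (64,1), (65,1), (66,1), (67,1), (68,1), (71,1), (72,1), (73,1), (77,1)], [(0,1), (4,1), (6,1), (7,1), (9,1), (10,1), (16,1), (24,1), (27,1), (36,1), (38,1), (39,1), (44,1), (45,1), (46,1), (53,1),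 (54,1), (57,1), (58,1), (59,1), (61,1), (62,1), (63,1), (64,1)], [(0,1), (1,1), (2,1), (3,1), (5,1), (6,1), (7,1), (11,1), (12,1), (13,1), (15,1), (19,1), (20,1), (28,1), (30,1), (31,1), (32,1), (34,1), (35,1), (44,1), (53,1), (58,1), (60,1), (61,1), (64,1), (65,1), (66,1), (68,1), (71,1), (73,1), (74,1), (77,1), (80,1)]],
    [[(0,1), (1,1), (2,1), (3,1), (4,1), (5,1), (6,1), (7,1), (8,1), (9,1), (10,1), (11,1), (12,1), (13,1), (14,1), (15,1), (16,1), (19,1), (20,1), (22,1), (23,1), (25,1), (27,1), (28,1), (32,1), (34,1), (37,1), (39,1), (40,1), (41,1), (44,1), (45,1), (46,1), (47,1), (48,1), (49,1), (51,1), (53,1), (54,1), (58,1), (59,1), (60,1), (65,1), (66,1), (68,1), (70,1), (71,1), (72,1), (73,1), (74,1), (76,1), (77,1), (78,1), (80,1)], [(1,1), (2,1), (3,1), (4,1), (5,1), (10,1), (11,1), (12,1), (13,1), (14,1), (16,1), (17,1), (18,1), (19,1), (23,1), (24,1), (27,1), (28,1), (31,1), (32,1), (33,1),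 (35,1), (36,1), (37,1), (38,1), (39,1), (42,1), (44,1), (45,1), (46,1), (48,1), (49,1), (50,1), (52,1), (53,1), (54,1), (56,1), (57,1), (58,1), (62,1), (71,1), (72,1), (75,1), (80,1)], [(0,1), (1,1), (2,1), (3,1), (6,1), (7,1), (8,1), (9,1), (10,1), (11,1), (12,1), (13,1), (14,1), (15,1), (16,1), (19,1), (20,1), (22,1), (23,1), (25,1), (27,1), (28,1), (32,1), (33,1), (37,1), (38,1), (39,1), (44,1), (45,1), (46,1), (47,1), (48,1), (49,1), (51,1), (53,1), (54,1), (57,1), (58,1), (59,1), (60,1), (65,1), (66,1), (68,1), (69,1), (70,1), (72,1), (73,1), (74,1), (76,1), (77,1), (78,1), (80,1)], [(0,1), (1,1), (2,1), (3,1), (7,1), (8,1), (11,1), (12,1), (13,1), (14,1), (15,1), (16,1), (19,1), (20,1), (22,1), (23,1), (30,1), (34,1), (38,1), (39,1), (45,1), (47,1), (49,1), (50,1), (53,1), (56,1), (58,1), (60,1), (63,1), (64,1), (66,1), (67,1), (69,1), (70,1), (71,1), (72,1), (75,1), (76,1), (77,1), (78,1)],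 [(1,1), (2,1), (3,1), (4,1), (5,1), (10,1), (11,1), (12,1), (13,1), (14,1), (16,1), (17,1), (18,1), (19,1), (23,1), (24,1), (27,1), (28,1), (31,1), (32,1), (33,1), (35,1), (37,1), (38,1), (39,1), (42,1), (44,1), (45,1), (46,1), (48,1), (49,1), (50,1), (51,1), (52,1), (53,1), (54,1), (55,1), (56,1), (57,1), (58,1), (70,1), (71,1), (72,1), (73,1), (75,1), (80,1)], [(0,1), (5,1), (8,1), (9,1), (10,1), (14,1), (15,1), (19,1), (20,1), (21,1), (23,1), (25,1), (26,1), (28,1), (29,1), (31,1), (32,1), (33,1), (35,1), (39,1), (44,1), (45,1), (46,1), (47,1), (48,1), (50,1), (51,1), (52,1), (53,1), (54,1), (56,1), (57,1), (58,1), (60,1), (61,1), (64,1), (65,1), (67,1), (68,1), (73,1), (74,1), (80,1)], [(5,1), (8,1), (9,1), (10,1), (14,1), (15,1), (19,1), (20,1), (21,1), (23,1), (25,1), (26,1), (28,1), (29,1), (31,1), (32,1), (34,1), (35,1), (39,1), (44,1), (45,1), (46,1), (47,1), (48,1), (50,1), (51,1), (52,1),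 (53,1), (54,1), (56,1), (57,1), (58,1), (60,1), (61,1), (64,1), (65,1), (67,1), (68,1), (73,1), (75,1), (80,1)], [(4,1), (5,1), (6,1), (7,1), (9,1), (10,1), (16,1), (18,1), (19,1), (22,1), (24,1), (27,1), (31,1), (32,1), (33,1), (38,1), (39,1), (40,1), (44,1), (47,1), (48,1), (49,1), (50,1), (51,1), (52,1), (53,1), (54,1), (55,1), (58,1), (59,1), (61,1), (62,1), (63,1), (65,1), (66,1), (67,1), (68,1), (69,1), (70,1), (71,1)], [(1,1), (2,1), (3,1), (4,1), (10,1), (11,1), (12,1), (13,1), (14,1), (16,1), (17,1), (18,1), (19,1), (23,1), (24,1), (27,1), (28,1), (31,1), (32,1), (33,1), (34,1), (35,1), (37,1), (39,1), (40,1), (42,1), (44,1), (45,1), (46,1), (48,1), (49,1), (50,1), (52,1), (53,1), (54,1), (55,1), (56,1), (57,1), (58,1), (62,1), (70,1), (71,1), (72,1), (74,1), (80,1)], [(5,1), (7,1), (10,1), (14,1), (15,1), (16,1), (18,1), (20,1), (21,1), (26,1), (28,1), (29,1), (30,1), (31,1), (33,1), (34,1),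 (36,1), (37,1), (40,1), (41,1), (42,1), (45,1), (46,1), (48,1), (56,1), (60,1), (62,1), (69,1), (71,1), (72,1), (73,1), (74,1), (75,1), (76,1), (78,1), (80,1)], [(1,1), (2,1), (3,1), (4,1), (6,1), (10,1), (11,1), (12,1), (13,1), (14,1), (15,1), (18,1), (20,1), (22,1), (27,1), (28,1), (30,1), (33,1), (34,1), (35,1), (36,1), (38,1), (40,1), (42,1), (45,1), (46,1), (48,1), (49,1), (50,1), (51,1), (53,1), (57,1), (59,1), (60,1), (61,1), (64,1), (66,1), (67,1), (68,1), (70,1), (75,1), (77,1), (80,1)], [(0,1), (1,1), (2,1), (3,1), (6,1), (10,1), (11,1), (12,1), (13,1), (14,1), (15,1), (18,1), (20,1), (22,1), (27,1), (28,1), (30,1), (33,1), (35,1), (36,1), (40,1), (41,1), (42,1), (45,1), (46,1), (48,1), (49,1), (50,1), (51,1), (53,1), (57,1), (59,1), (60,1), (61,1), (64,1), (66,1), (67,1), (68,1), (70,1), (75,1), (77,1), (80,1)], [(4,1), (5,1), (6,1), (7,1), (10,1), (14,1), (17,1), (18,1), (19,1), (21,1),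 (22,1), (23,1), (24,1), (26,1), (28,1), (29,1), (32,1), (34,1), (39,1), (40,1), (42,1), (44,1), (45,1), (46,1), (48,1), (54,1), (55,1), (58,1), (59,1), (61,1), (62,1), (64,1), (66,1), (67,1), (69,1), (74,1), (75,1), (76,1), (77,1), (78,1), (80,1)], [(1,1), (2,1), (3,1), (4,1), (6,1), (7,1), (11,1), (12,1), (13,1), (16,1), (21,1), (22,1), (26,1), (27,1), (29,1), (31,1), (34,1), (35,1), (37,1), (40,1), (41,1), (49,1), (50,1), (52,1), (53,1), (56,1), (57,1), (59,1), (61,1), (64,1), (66,1), (67,1), (69,1), (70,1), (71,1), (72,1), (75,1), (76,1), (77,1), (78,1)]]]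

/-- The words of the generators. -/
def pcwTwo : List (List ℕ) := [[0,1,2,1,0,2,0,2,0,2,1,2,1,2,1,0,2,0,1,2,0,1,2,1,0,1],
  [2,0,2,1,2,0,2,0,1,2,1,0,1,2,0,2,0,1,0,1,2,0,1,0,2,1],
  [0,2,0,1,0,2,1,2,1,0,2,0,1,0,2,1,0,2,1,2,0,1,2,1,2,0,1,2,1,0],
  [0,2,1,2,1,2,0,1,0,1,0,1,2,1,0,2,0,1,2,0,1],
  [1,2,0,1,0,2,1,0,1,2,0,2,1,2,0,1,0,2,0,1,2,1,0,2,1,0,2,0,2,0,1],
  [0,1,2,0,1,2,1,2,0,1,2,0,2,1,2,1,2,0,1,0,2,0,1,2,0,1,2,1,0,1],
  [0,1,2,1,2,1,2,0,2,1,2,0,2,1,2,1,2,1,0],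
  [0,1,2,1,0,2,0,1,2,1,2,0,1,2,0,1,0,2,1,0,2,1,2,1,0,2,0,1,2,1,0],
  [1,0,1,2,0,2,0,1,0,1,2,1,2,1,2,0,2,1,0,1],
  [2,0,2,0,1,2,0,1,0,2,1,0,2,1,0,2,0,2,1,2,0,2,0,1,0,2],
  [0,1,0,2,0,1,2,1,0,1,0,1,0,1,2,1,2,0,1,2,1,0,2,0,1,0],
  [0,2,1,0,1,2,0,1,0,2,0,2,1,2,1,0,2,0,1,0,2,1,0,1,0,1,0,2,0],
  [1,2,1,2,1,2,1,2,1,2,1,2],
  [0,1,0,1,0,1,0,1,0,1,0,1]]

/-- The words of the conjugators. -/
def fwTwo : List (List ℕ) := [[2,1,0,2,0,1,0,2,1,2,1,0,2,0,2,1,2,1,0,1,2,1,0],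
  [2,1,2,1,2,1,0,1,2,1,2,0,1,2,0,1,2,0,1,0,2,0,2,1,2,0,2,0,1,0,2]]

def sylTwoGen0P0 : List (List ℕ) :=
  [[10,1],
   [4],
   [7,5],
   [0,3,10],
   [9,3],
   [1,7],
   [3,9],
   [3,7],
   [1,1,5],
   [0,10],
   [1,3],
   [1,2,10],
   [8],
   [1,2],
   [4,3],
   [0],
   [6],
   [0,4],
   [0,8],
   [10],
   [9,4],
   [0,5,9],
   [2,9],
   [2,7],
   [3,4],
   [1,9],
   [4,10],
   [9,11],
   [0,3],
   [0,1],
   [3,1],
   [2],
   [1,0,10],
   [1,5],
   [4,2],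
   [9,10],
   [8,4],
   [0,1,9],
   [0,9],
   [0,7]]

def sylTwoGen0P1 : List (List ℕ) :=
  [[0,3,11],
   [7,8],
   [2,2],
   [0,7,1],
   [1,8],
   [1,10],
   [1,0],
   [0,5],
   [0,11],
   [8,9],
   [4,5],
   [2,3],
   [4,0],
   [7],
   [9],
   [1,1],
   [0,4,7],
   [6,4],
   [1],
   [2,8],
   [2,10],
   [3],
   [11]]

def sylTwoOrb0P0 : List (ℕ × ℕ × ℕ) :=
  [(2,1,0),
   (4,1,1),
   (6,1,2),
   (8,1,3),
   (10,1,4),
   (13,1,5),
   (15,1,6),
   (17,1,7),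
   (19,1,8),
   (21,1,9),
   (22,1,10),
   (23,1,11),
   (24,1,12),
   (26,1,13),
   (27,1,14),
   (30,1,15),
   (31,1,16),
   (33,1,17),
   (34,1,18),
   (35,1,19),
   (36,1,20),
   (38,1,21),
   (40,1,22),
   (42,1,23),
   (44,1,24),
   (47,1,25),
   (49,1,26),
   (51,1,27),
   (53,1,28),
   (55,1,29),
   (56,1,30),
   (57,1,31),
   (60,1,32),
   (63,1,33),
   (66,1,34),
   (68,1,35),
   (70,1,36),
   (72,1,37),
   (74,1,38),
   (76,1,39)]

def sylTwoOrb0P1 : List (ℕ × ℕ × ℕ) :=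
  [(78,1,40),
   (80,1,41),
   (82,1,42),
   (83,1,43),
   (85,1,44),
   (86,1,45),
   (88,1,46),
   (89,1,47),
   (90,1,48),
   (92,1,49),
   (94,1,50),
   (96,1,51),
   (98,1,52),
   (100,1,53),
   (102,1,54),
   (104,1,55),
   (106,1,56),
   (108,1,57),
   (111,1,58),
   (112,1,59),
   (115,1,60),
   (118,1,61),
   (119,1,62)]

def sylTwoLev0 : ℕ × List (List ℕ) × List (ℕ × ℕ × ℕ) := (1, sylTwoGen0P0 ++ sylTwoGen0P1, sylTwoOrb0P0 ++ sylTwoOrb0P1)

def sylTwoGen1P0 : List (List ℕ) :=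
  [[0,3,5,9],
   [0,2,2,1],
   [0,1,0,5,3],
   [4,7,0,5],
   [0,1,3,0,5],
   [0,4,1,4],
   [4,3,9,7],
   [1,4,10,5],
   [3,2,0],
   [2,11,6],
   [2,2,6,5],
   [2,8,5],
   [0,3,2,9],
   [0,1,2,5,10],
   [1,7,3,6],
   [7,1,8,2],
   [2,5,3,11],
   [1,1,10,7],
   [5,0],
   [0,10,2],
   [1,0,3,7,10],
   [0,3,0,9],
   [2,2,5,1],
   [8,3,11],
   [6,1,10],
   [2,3,9,6],
   [2,10,1],
   [0,8,6,10],
   [10,0,1,3],
   [2,1,6,1],
   [0,2,3,0,1],
   [0,2,5,8,6],
   [3,4,1,0],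
   [0,10,1,3],
   [0,6,8,10],
   [10,2,1],
   [2,3,6,9],
   [7,1,6],
   [2,2,3],
   [5,1,8,10]]

def sylTwoGen1P1 : List (List ℕ) :=
  [[6,5,3],
   [6,1,2,1],
   [0,2,10],
   [5,0,12],
   [1,1,7,10],
   [2,5,11,3],
   [7,1,2,8],
   [0,5,4,7],
   [1,9,0,7],
   [8,4,1,2],
   [2,5,8],
   [5,8,6,10],
   [2,6,11],
   [2,0,3,10],
   [1,4,5,10],
   [3,7,8,4],
   [0,1,5,6],
   [2,1,3,8],
   [5,10,1,3],
   [0,2,4,7,11],
   [0,1,8,10],
   [0,3,9,5],
   [12]]

def sylTwoOrb1P0 : List (ℕ × ℕ × ℕ) :=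
  [(487,482,0),
   (490,482,1),
   (492,482,2),
   (495,482,3),
   (498,482,4),
   (504,482,5),
   (505,482,6),
   (512,482,7),
   (513,482,8),
   (519,482,9),
   (522,482,10),
   (525,482,11),
   (527,482,12),
   (530,482,13),
   (535,482,14),
   (538,482,15),
   (542,482,16),
   (546,482,17),
   (551,482,18),
   (552,482,19),
   (559,482,20),
   (562,482,21),
   (566,482,22),
   (572,482,23),
   (578,482,24),
   (579,482,25),
   (585,482,26),
   (587,482,27),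
   (591,482,28),
   (594,482,29),
   (598,482,30),
   (601,482,31),
   (605,482,32),
   (608,482,33),
   (612,482,34),
   (614,482,35),
   (620,482,36),
   (621,482,37),
   (627,482,38),
   (633,482,39)]

def sylTwoOrb1P1 : List (ℕ × ℕ × ℕ) :=
  [(637,482,40),
   (640,482,41),
   (647,482,42),
   (648,482,43),
   (653,482,44),
   (657,482,45),
   (661,482,46),
   (664,482,47),
   (669,482,48),
   (672,482,49),
   (674,482,50),
   (677,482,51),
   (680,482,52),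
   (686,482,53),
   (687,482,54),
   (694,482,55),
   (695,482,56),
   (701,482,57),
   (704,482,58),
   (707,482,59),
   (709,482,60),
   (712,482,61),
   (717,482,62)]

def sylTwoLev1 : ℕ × List (List ℕ) × List (ℕ × ℕ × ℕ) := (482, sylTwoGen1P0 ++ sylTwoGen1P1, sylTwoOrb1P0 ++ sylTwoOrb1P1)

def sylTwoGen2P0 : List (List ℕ) :=
  [[1,4,8,0,3]]

def sylTwoOrb2P0 : List (ℕ × ℕ × ℕ) :=
  [(95,0,0)]

def sylTwoLev2 : ℕ × List (List ℕ) × List (ℕ × ℕ × ℕ) := (0, sylTwoGen2P0, sylTwoOrb2P0)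

def sylTwoGen3P0 : List (List ℕ) :=
  [[13]]

def sylTwoOrb3P0 : List (ℕ × ℕ × ℕ) :=
  [(479,240,0)]

def sylTwoLev3 : ℕ × List (List ℕ) × List (ℕ × ℕ × ℕ) := (240, sylTwoGen3P0, sylTwoOrb3P0)

/-- A chain for the Sylow subgroup. -/
def sylTwo : List (ℕ × List (List ℕ) × List (ℕ × ℕ × ℕ)) := [sylTwoLev0, sylTwoLev1, sylTwoLev2, sylTwoLev3]

/-- The certificate. -/
def certThree : Cert where
  p := 3
  n := 5
  tails := [[[]],
    [[0,1,2,3,3,4,4], []],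
    [[0,2], [1,2,3,4,4], []],
    [[0,3], [1,3], [2,3], []],
    [[0,4], [1,4], [2,4], [3,4], []]]
  overlaps := [([1,1,1,0],2), ([1,0,0,0],1), ([2,1,0],1), ([2,2,2,1],2), ([3,1,0],1), ([3,2,1],1), ([4,1,0],1)]
  fuse := [([[1,1,2,3], [1,1,3], [3], [3,4]], [[1,2,3], [1,1,4], [3], [3,4]], [([0,0,0],[]), ([2,0],[0,2])]),
    ([[0,2,4], [0,2,2,3,3,4], [0,2,2,3], [0,2,2,4]], [[0,0,2,2,3,3,4,4], [0,0,2,3,3,4,4], [3,4,4], [0,0,2,4,4]], [([0,0,0],[]), ([1,0],[0,1]), ([2,0],[0,2])]),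
    ([[0,2,2,3,4,4], [1,1,2,3,4,4], [2,2,3,3], [2,2,3,4,4], [3,4,4]], [[0,0,2,3,3,4], [1,2,2], [2,2,3,3], [2,2,4], [3,3,4]], [([0,0,0],[])])]
  delta := [[], [], [], [(5,1), (11,2)], [(5,1), (11,1)]]
  sels := [[[(9,1), (12,1)]],
    [[], [(3,1), (4,2), (5,2), (6,1), (7,1)]],
    [[(2,1), (5,1), (11,1)], [], [(3,2), (9,1), (12,2)]],
    [[(5,2), (10,2)], [(8,1)], [(4,2), (5,1)], [(1,1), (3,2), (9,2), (12,1)]],
    [[(2,2), (4,2), (5,2), (10,2)], [(0,1), (1,1), (3,2), (4,1), (5,1), (6,2), (8,1)], [(5,2), (6,2)], [(5,2)], [(1,1), (9,2), (12,1)]]]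

/-- The words of the generators. -/
def pcwThree : List (List ℕ) := [[1,0,2,0,2,0,1,0,2,1,0,1,2,0,2,1,0,2,1,0,1,0,2,0,2,0,2,0],
  [2,0,2,1,0,2,1,2,1,0,2,1,0,1,2,0,2,0,1,0,1,2,0,1,2,0,2,0,2,1,2,0],
  [2,1,2,0,1,2,1,0,1,2,0,2,1,0,2,0,2,1,2,0,1,2,0,1,2,1,2,0,2,1],
  [0,1,0,1,2,0,1,2,0,1,0,1,0,2,0,1,0,2,0,1,2,1,0,2,0,1,2,1,0,2,0],
  [0,1,2,1,0,2,0,1,2,0,2,1,0,2,1,2,0,1,0,2,1,0,2,0,1,0,2]]

/-- The words of the conjugators. -/
def fwThree : List (List ℕ) := [[2,0,1,2,1,0,1,0,2,1,0,1,0,1,0,2,1,0,2,1,2,0,1,2,0,1,0,2,1,0,1,0],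
  [2,0,2,1,0,2,0,2,1,0,1,2,0,2,0,1,0,1,2,1,2,0,2,1,2,1,2,0,2],
  [2,1,0,1,0,2,1,0,2,1,0,2,0,2,1,0,2,0,2,1,0,1,2,1,0,1]]

def sylThreeGen0P0 : List (List ℕ) :=
  [[0,2,4],
   [0,0,1,4],
   [4,4],
   [0,0,1],
   [1,0,2],
   [0,2],
   [0,0,4],
   [0,0],
   [0,2,2],
   [2,4],
   [1],
   [0,0,2],
   [0,4,4],
   [0,0,2,4],
   [2,1],
   [1,0],
   [1,2],
   [4],
   [0],
   [0,0,2,2],
   [0,4],
   [2,1,0],
   [1,0,0],
   [2],
   [1,1],
   [0,0,4,4]]

def sylThreeOrb0P0 : List (ℕ × ℕ × ℕ) :=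
  [(9,6,0),
   (11,6,1),
   (20,6,2),
   (28,6,3),
   (32,6,4),
   (34,6,5),
   (35,6,6),
   (36,6,7),
   (40,6,8),
   (42,6,9),
   (43,6,10),
   (62,6,11),
   (67,6,12),
   (69,6,13),
   (72,6,14),
   (74,6,15),
   (76,6,16),
   (82,6,17),
   (83,6,18),
   (84,6,19),
   (96,6,20),
   (102,6,21),
   (103,6,22),
   (115,6,23),
   (116,6,24),
   (117,6,25)]

def sylThreeLev0 : ℕ × List (List ℕ) × List (ℕ × ℕ × ℕ) := (6, sylThreeGen0P0, sylThreeOrb0P0)

def sylThreeGen1P0 : List (List ℕ) :=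
  [[2,2,1],
   [1,1,2]]

def sylThreeOrb1P0 : List (ℕ × ℕ × ℕ) :=
  [(33,8,0),
   (100,8,1)]

def sylThreeLev1 : ℕ × List (List ℕ) × List (ℕ × ℕ × ℕ) := (8, sylThreeGen1P0, sylThreeOrb1P0)

def sylThreeGen2P0 : List (List ℕ) :=
  [[3,3],
   [3]]

def sylThreeOrb2P0 : List (ℕ × ℕ × ℕ) :=
  [(10,0,0),
   (44,0,1)]

def sylThreeLev2 : ℕ × List (List ℕ) × List (ℕ × ℕ × ℕ) := (0, sylThreeGen2P0, sylThreeOrb2P0)

/-- A chain for the Sylow subgroup. -/
def sylThree : List (ℕ × List (List ℕ) × List (ℕ × ℕ × ℕ)) := [sylThreeLev0, sylThreeLev1, sylThreeLev2]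

/-- The certificate. -/
def certFive : Cert where
  p := 5
  n := 2
  tails := [[[]],
    [[0,1], []]]
  overlaps := []
  fuse := [([[0,0,0,1,1,1], [0,0,0,1]], [[0,0,0,0,1], [0,0,0,0,1,1]], [([0,0,0,0,0],[]), ([1,1,1,1,1],[])]),
    ([[0,0,0,1], [1,1]], [[0,0,1,1,1,1], [0,0,0,0]], [([1,0],[0,1])])]
  delta := [[], []]
  sels := [[[(0,3), (1,1)]],
    [[(2,3)], [(0,2), (1,3)]]]

/-- The words of the generators. -/
def pcwFive : List (List ℕ) := [[1,0,2,0,1,0,1,0,1,2,0,2,0,2,0,1,0,1,2,0,2,1,2,1,0,1,2,0,2,0,1],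
  [1,2,0,1,0,1,2,1,2,0,2,0,1,2,0,1,0,1,2,0,2,1,0,2,0,1,2,0,2]]

/-- The words of the conjugators. -/
def fwFive : List (List ℕ) := [[2,0,1,2,1,0,2,0,2,0,1,2,1,2,0,1,2,0,1,0,2,0,1,2,0,2,1,2],
  [0,1,0,1,2,1,0,1,2,1,2,0,1,0,1,2,0,2,1,0,2,0,2,0,1,2,1,2]]

def sylFiveGen0P0 : List (List ℕ) :=
  [[0],
   [0,0],
   [0,0,0],
   [0,0,0,0]]

def sylFiveOrb0P0 : List (ℕ × ℕ × ℕ) :=
  [(10,5,0),
   (28,5,1),
   (55,5,2),
   (58,5,3)]

def sylFiveLev0 : ℕ × List (List ℕ) × List (ℕ × ℕ × ℕ) := (5, sylFiveGen0P0, sylFiveOrb0P0)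

def sylFiveGen1P0 : List (List ℕ) :=
  [[1,1,1],
   [1,1],
   [1],
   [1,1,1,1]]

def sylFiveOrb1P0 : List (ℕ × ℕ × ℕ) :=
  [(11,0,0),
   (26,0,1),
   (33,0,2),
   (40,0,3)]

def sylFiveLev1 : ℕ × List (List ℕ) × List (ℕ × ℕ × ℕ) := (0, sylFiveGen1P0, sylFiveOrb1P0)

/-- A chain for the Sylow subgroup. -/
def sylFive : List (ℕ × List (List ℕ) × List (ℕ × ℕ × ℕ)) := [sylFiveLev0, sylFiveLev1]

end Cfsg.Lib.OEightCover
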