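import Cfsg.Agent.OEightCover.Cert
import Cfsg.Agent.Schur.PrimeCertLit

/-!
The certificate at the prime 2 checked row by row from written-out equations.
-/

set_option autoImplicit false
set_option maxRecDepth 100000
set_option Elab.async false

namespace Cfsg.Lib.OEightCover

open Cfsg.Lib.Schur.Prime (Cert)

def eqsTwoP0 : List (Bool × Cfsg.Lib.Schur.Prime.Form) := [
  (true, [(168, 1), (182, 1)]),
  (true, [(28, 1), (29, 1), (30, 1), (56, 1), (71, 1), (75, 1), (84, 1), (86, 1), (89, 1), (99, 1), (100, 1), (112, 1), (114, 1), (118, 1), (120, 1), (126, 1), (127, 1), (128, 1), (133, 1), (134, 1), (135, 1), (140, 1), (142, 1), (145, 1), (146, 1), (148, 1), (149, 1), (155, 1), (156, 1), (160, 1), (161, 1), (163, 1), (164, 1), (165, 1), (168, 1), (169, 1), (170, 1), (172, 1), (173, 1), (176, 1), (177, 1), (180, 1), (182, 1), (184, 1), (186, 1), (187, 1), (188, 1), (190, 1), (192, 1), (193, 1), (194, 1), (195, 1)]),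
  (true, [(28, 1), (30, 1), (70, 1), (72, 1), (75, 1), (98, 1), (100, 1), (103, 1), (105, 1), (119, 1), (126, 1), (128, 1), (131, 1), (133, 1), (135, 1), (145, 1), (147, 1), (148, 1), (149, 1), (154, 1), (156, 1), (159, 1), (161, 1), (162, 1), (163, 1), (164, 1), (165, 1), (168, 1), (169, 1), (170, 1), (173, 1), (179, 1), (180, 1), (183, 1), (187, 1), (190, 1), (191, 1), (193, 1), (194, 1), (195, 1)]),
  (true, [(29, 1), (57, 1), (74, 1), (75, 1), (85, 1), (88, 1), (89, 1), (90, 1), (102, 1), (103, 1), (105, 1), (113, 1), (118, 1), (120, 1), (127, 1), (130, 1), (131, 1), (132, 1), (133, 1), (134, 1), (141, 1), (144, 1), (145, 1), (147, 1), (150, 1), (159, 1), (160, 1), (162, 1), (163, 1), (164, 1), (169, 1), (172, 1), (173, 1), (174, 1), (175, 1), (178, 1), (183, 1), (186, 1), (187, 1), (188, 1), (190, 1), (192, 1), (193, 1), (194, 1)]),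
  (true, [(112, 1), (114, 1), (120, 1), (154, 1), (156, 1), (162, 1), (165, 1), (170, 1), (176, 1), (179, 1), (180, 1), (182, 1), (193, 1), (194, 1), (195, 1)]),
  (true, [(112, 1), (120, 1), (154, 1), (162, 1), (165, 1), (168, 1), (170, 1), (176, 1), (184, 1), (193, 1), (194, 1), (195, 1)]),
  (true, [(70, 1), (84, 1), (86, 1), (89, 1), (98, 1), (104, 1), (113, 1), (114, 1), (117, 1), (118, 1), (126, 1), (132, 1), (134, 1), (140, 1), (146, 1), (147, 1), (149, 1), (155, 1), (156, 1), (159, 1), (160, 1), (161, 1), (162, 1), (164, 1), (168, 1), (169, 1), (170, 1), (173, 1), (175, 1), (176, 1), (177, 1), (180, 1), (182, 1), (184, 1), (190, 1), (193, 1), (195, 1)]),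
  (true, [(72, 1), (75, 1), (86, 1), (89, 1), (90, 1), (100, 1), (103, 1), (104, 1), (105, 1), (113, 1), (118, 1), (120, 1), (128, 1), (131, 1), (132, 1), (133, 1), (135, 1), (142, 1), (147, 1), (148, 1), (149, 1), (155, 1), (162, 1), (163, 1), (164, 1), (170, 1), (173, 1), (175, 1), (176, 1), (178, 1), (179, 1), (183, 1), (184, 1), (188, 1), (189, 1), (191, 1), (192, 1), (194, 1)]),
  (true, [(58, 1), (71, 1), (75, 1), (85, 1), (86, 1), (89, 1), (90, 1), (99, 1), (103, 1), (114, 1), (118, 1), (120, 1), (127, 1), (128, 1), (131, 1), (132, 1), (135, 1), (141, 1), (142, 1), (146, 1), (147, 1), (150, 1), (159, 1), (160, 1), (162, 1), (164, 1), (165, 1), (169, 1), (170, 1), (175, 1), (178, 1), (179, 1), (180, 1), (183, 1), (184, 1), (188, 1), (189, 1), (190, 1), (191, 1), (192, 1), (194, 1)]),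
  (true, [(73, 1), (75, 1), (87, 1), (89, 1), (90, 1), (118, 1), (120, 1), (129, 1), (131, 1), (134, 1), (140, 1), (146, 1), (149, 1), (157, 1), (159, 1), (163, 1), (164, 1), (168, 1), (173, 1), (182, 1), (187, 1), (190, 1), (191, 1), (192, 1)]),
  (true, [(70, 1), (75, 1), (84, 1), (89, 1), (90, 1), (126, 1), (131, 1), (132, 1), (135, 1), (149, 1), (154, 1), (159, 1), (160, 1), (165, 1), (171, 1), (174, 1), (178, 1), (179, 1), (180, 1), (185, 1), (188, 1), (191, 1), (193, 1), (194, 1), (195, 1)]),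
  (true, [(44, 1), (56, 1), (58, 1), (70, 1), (71, 1), (73, 1), (74, 1), (84, 1), (85, 1), (89, 1), (98, 1), (100, 1), (101, 1), (102, 1), (103, 1), (104, 1), (105, 1), (120, 1), (126, 1), (127, 1), (129, 1), (130, 1), (131, 1), (132, 1), (133, 1), (135, 1), (140, 1), (142, 1), (144, 1), (145, 1), (146, 1), (149, 1), (155, 1), (156, 1), (157, 1), (158, 1), (161, 1), (165, 1), (171, 1), (172, 1), (173, 1), (174, 1), (176, 1), (179, 1), (186, 1), (187, 1), (188, 1), (189, 1), (191, 1), (192, 1), (193, 1), (195, 1)]),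
  (true, [(59, 1), (60, 1), (73, 1), (74, 1), (75, 1), (87, 1), (88, 1), (89, 1), (90, 1), (101, 1), (102, 1), (103, 1), (104, 1), (105, 1), (117, 1), (118, 1), (119, 1), (120, 1), (129, 1), (130, 1), (134, 1), (141, 1), (143, 1), (144, 1), (145, 1), (146, 1), (158, 1), (159, 1), (160, 1), (162, 1), (164, 1), (169, 1), (175, 1), (178, 1), (183, 1), (187, 1), (189, 1), (192, 1), (193, 1), (194, 1), (195, 1)]),
  (true, [(44, 1), (57, 1), (59, 1), (60, 1), (71, 1), (75, 1), (85, 1), (87, 1), (90, 1), (99, 1), (102, 1), (104, 1), (115, 1), (116, 1), (120, 1), (127, 1), (129, 1), (130, 1), (135, 1), (141, 1), (143, 1), (146, 1), (147, 1), (149, 1), (159, 1), (163, 1), (164, 1), (171, 1), (172, 1), (173, 1), (178, 1), (185, 1), (188, 1), (189, 1), (190, 1), (192, 1), (193, 1), (194, 1)]),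
  (true, [(70, 1), (72, 1), (84, 1), (86, 1), (115, 1), (118, 1), (120, 1), (126, 1), (128, 1), (140, 1), (145, 1), (146, 1), (148, 1), (149, 1), (150, 1), (154, 1), (156, 1), (157, 1), (160, 1), (171, 1), (174, 1), (176, 1), (177, 1), (178, 1), (179, 1), (180, 1), (187, 1), (188, 1), (195, 1)]),
  (true, [(58, 1), (71, 1), (72, 1), (73, 1), (85, 1), (86, 1), (87, 1), (100, 1), (101, 1), (102, 1), (104, 1), (105, 1), (116, 1), (119, 1), (127, 1), (128, 1), (129, 1), (130, 1), (141, 1), (142, 1), (143, 1), (145, 1), (147, 1), (148, 1), (149, 1), (155, 1), (158, 1), (159, 1), (161, 1), (164, 1), (165, 1), (171, 1), (173, 1), (175, 1), (176, 1), (178, 1), (179, 1), (185, 1), (190, 1), (192, 1), (194, 1)]),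
  (true, [(73, 1), (75, 1), (87, 1), (89, 1), (90, 1), (118, 1), (120, 1), (129, 1), (131, 1), (134, 1), (142, 1), (143, 1), (145, 1), (150, 1), (157, 1), (159, 1), (163, 1), (170, 1), (173, 1), (174, 1), (178, 1), (180, 1), (184, 1), (187, 1), (190, 1), (191, 1), (192, 1)]),
  (true, [(72, 1), (75, 1), (86, 1), (89, 1), (90, 1), (115, 1), (118, 1), (120, 1), (128, 1), (131, 1), (132, 1), (135, 1), (142, 1), (145, 1), (146, 1), (148, 1), (150, 1), (156, 1), (157, 1), (159, 1), (165, 1), (176, 1), (177, 1), (178, 1), (179, 1), (180, 1), (185, 1), (187, 1), (191, 1), (193, 1), (194, 1)]),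
  (true, [(143, 1), (171, 1), (185, 1)]),
  (true, [(74, 1), (75, 1), (88, 1), (89, 1), (90, 1), (116, 1), (117, 1), (130, 1), (131, 1), (144, 1), (145, 1), (146, 1), (150, 1), (160, 1), (163, 1), (164, 1), (173, 1), (174, 1), (176, 1), (177, 1), (186, 1), (188, 1), (190, 1), (191, 1), (192, 1), (193, 1)]),
  (true, [(70, 1), (75, 1), (84, 1), (89, 1), (90, 1), (112, 1), (117, 1), (118, 1), (120, 1), (126, 1), (131, 1), (132, 1), (134, 1), (135, 1), (140, 1), (145, 1), (146, 1), (150, 1), (162, 1), (163, 1), (172, 1), (179, 1), (180, 1), (182, 1), (186, 1), (187, 1), (188, 1), (190, 1), (191, 1), (193, 1), (195, 1)]),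
  (true, [(58, 1), (70, 1), (71, 1), (74, 1), (84, 1), (85, 1), (102, 1), (104, 1), (105, 1), (113, 1), (114, 1), (117, 1), (118, 1), (119, 1), (127, 1), (128, 1), (130, 1), (131, 1), (134, 1), (135, 1), (141, 1), (145, 1), (149, 1), (156, 1), (158, 1), (160, 1), (161, 1), (164, 1), (165, 1), (168, 1), (170, 1), (172, 1), (179, 1), (180, 1), (182, 1), (183, 1), (184, 1), (187, 1), (189, 1), (192, 1), (195, 1)]),
  (true, [(74, 1), (75, 1), (88, 1), (89, 1), (90, 1), (118, 1), (120, 1), (132, 1), (134, 1), (135, 1), (148, 1), (149, 1), (160, 1), (164, 1), (165, 1), (172, 1), (173, 1), (179, 1), (180, 1), (186, 1), (188, 1), (194, 1)]),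
  (true, [(58, 1), (71, 1), (75, 1), (85, 1), (88, 1), (89, 1), (90, 1), (104, 1), (105, 1), (118, 1), (133, 1), (135, 1), (145, 1), (150, 1), (159, 1), (161, 1), (163, 1), (164, 1), (169, 1), (172, 1), (173, 1), (174, 1), (176, 1), (178, 1), (180, 1), (183, 1), (194, 1)]),
  (true, [(72, 1), (86, 1), (112, 1), (114, 1), (116, 1), (118, 1), (120, 1), (126, 1), (128, 1), (131, 1), (132, 1), (140, 1), (142, 1), (145, 1), (148, 1), (149, 1), (158, 1), (162, 1), (163, 1), (164, 1), (172, 1), (174, 1), (176, 1), (177, 1), (178, 1), (179, 1), (180, 1), (182, 1), (184, 1), (192, 1), (193, 1), (194, 1)]),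
  (true, [(72, 1), (74, 1), (86, 1), (88, 1), (102, 1), (103, 1), (104, 1), (113, 1), (119, 1), (127, 1), (130, 1), (131, 1), (133, 1), (135, 1), (141, 1), (144, 1), (148, 1), (149, 1), (150, 1), (160, 1), (161, 1), (163, 1), (164, 1), (170, 1), (172, 1), (174, 1), (175, 1), (180, 1), (183, 1), (184, 1), (186, 1), (189, 1), (191, 1), (192, 1), (193, 1), (194, 1), (195, 1)]),
  (true, [(116, 1), (120, 1), (130, 1), (134, 1), (135, 1), (144, 1), (148, 1), (149, 1), (150, 1), (163, 1), (165, 1), (176, 1), (177, 1), (179, 1), (180, 1), (186, 1), (190, 1), (192, 1), (193, 1)]),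
  (true, [(114, 1), (116, 1), (120, 1), (128, 1), (134, 1), (135, 1), (142, 1), (148, 1), (149, 1), (150, 1), (158, 1), (164, 1), (165, 1), (178, 1), (184, 1), (186, 1), (190, 1), (191, 1), (192, 1)]),
  (true, [(73, 1), (74, 1), (87, 1), (88, 1), (112, 1), (115, 1), (117, 1), (118, 1), (126, 1), (129, 1), (130, 1), (143, 1), (146, 1), (148, 1), (154, 1), (158, 1), (162, 1), (165, 1), (176, 1), (177, 1), (178, 1), (179, 1), (182, 1), (185, 1), (187, 1), (188, 1), (190, 1), (191, 1), (194, 1)]),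
  (true, [(73, 1), (87, 1), (102, 1), (103, 1), (104, 1), (113, 1), (116, 1), (118, 1), (119, 1), (120, 1), (127, 1), (131, 1), (133, 1), (135, 1), (147, 1), (148, 1), (149, 1), (155, 1), (158, 1), (159, 1), (161, 1), (165, 1), (171, 1), (173, 1), (174, 1), (175, 1), (177, 1), (178, 1), (179, 1), (180, 1), (183, 1), (185, 1), (192, 1)]),
  (true, [(74, 1), (88, 1), (114, 1), (115, 1), (118, 1), (120, 1), (128, 1), (129, 1), (130, 1), (132, 1), (134, 1), (135, 1), (143, 1), (144, 1), (145, 1), (156, 1), (158, 1), (159, 1), (160, 1), (162, 1), (164, 1), (165, 1), (173, 1), (176, 1), (178, 1), (180, 1), (184, 1), (185, 1), (193, 1), (194, 1)]),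
  (true, [(116, 1), (120, 1), (130, 1), (134, 1), (135, 1), (158, 1), (162, 1), (176, 1), (177, 1), (179, 1), (180, 1), (186, 1), (190, 1)]),
  (true, [(115, 1), (120, 1), (129, 1), (134, 1), (135, 1), (144, 1), (149, 1), (150, 1), (157, 1), (162, 1), (163, 1), (165, 1), (172, 1), (185, 1), (186, 1), (190, 1), (192, 1), (193, 1), (194, 1)]),
  (true, [(140, 1), (145, 1), (150, 1), (154, 1), (159, 1), (164, 1), (165, 1), (173, 1), (178, 1), (179, 1), (180, 1), (187, 1), (192, 1)]),
  (true, [(140, 1), (150, 1), (154, 1), (164, 1), (165, 1), (168, 1), (173, 1), (178, 1), (182, 1), (187, 1), (192, 1)]),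
  (true, [(72, 1), (98, 1), (100, 1), (117, 1), (126, 1), (128, 1), (134, 1), (141, 1), (142, 1), (148, 1), (154, 1), (155, 1), (156, 1), (159, 1), (163, 1), (168, 1), (169, 1), (170, 1), (173, 1), (176, 1), (179, 1), (180, 1), (183, 1), (187, 1), (191, 1), (193, 1), (195, 1)]),
  (true, [(103, 1), (105, 1), (131, 1), (133, 1), (135, 1), (141, 1), (155, 1), (159, 1), (163, 1), (165, 1), (173, 1), (177, 1), (178, 1), (179, 1), (180, 1), (189, 1), (191, 1), (194, 1)]),
  (true, [(72, 1), (74, 1), (89, 1), (99, 1), (105, 1), (116, 1), (117, 1), (120, 1), (127, 1), (131, 1), (132, 1), (133, 1), (135, 1), (144, 1), (145, 1), (155, 1), (160, 1), (161, 1), (164, 1), (169, 1), (173, 1), (174, 1), (186, 1), (187, 1), (190, 1), (195, 1)]),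
  (true, [(112, 1), (117, 1), (140, 1), (142, 1), (148, 1), (156, 1), (159, 1), (162, 1), (164, 1), (170, 1), (173, 1), (176, 1), (180, 1), (182, 1), (184, 1), (190, 1), (192, 1), (193, 1), (195, 1)]),
  (true, [(89, 1), (100, 1), (104, 1), (113, 1), (117, 1), (118, 1), (128, 1), (132, 1), (141, 1), (146, 1), (147, 1), (149, 1), (150, 1), (156, 1), (160, 1), (164, 1), (165, 1), (170, 1), (174, 1), (175, 1), (177, 1), (178, 1), (179, 1), (180, 1), (183, 1), (187, 1), (189, 1), (190, 1), (191, 1), (192, 1), (193, 1)])]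

def eqsTwoP1 : List (Bool × Cfsg.Lib.Schur.Prime.Form) := [
  (true, [(117, 1), (120, 1), (142, 1), (145, 1), (148, 1), (150, 1), (156, 1), (178, 1), (179, 1), (187, 1), (192, 1), (193, 1), (195, 1)]),
  (true, [(114, 1), (117, 1), (120, 1), (142, 1), (148, 1), (150, 1), (159, 1), (178, 1), (179, 1), (184, 1), (187, 1), (190, 1), (192, 1), (193, 1), (194, 1)]),
  (true, [(89, 1), (112, 1), (117, 1), (118, 1), (126, 1), (132, 1), (134, 1), (143, 1), (145, 1), (146, 1), (150, 1), (157, 1), (160, 1), (162, 1), (163, 1), (164, 1), (165, 1), (168, 1), (171, 1), (173, 1), (174, 1), (176, 1), (178, 1), (182, 1), (185, 1), (190, 1), (192, 1), (193, 1), (195, 1)]),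
  (true, [(74, 1), (89, 1), (101, 1), (102, 1), (104, 1), (113, 1), (117, 1), (118, 1), (119, 1), (120, 1), (127, 1), (129, 1), (130, 1), (131, 1), (133, 1), (134, 1), (135, 1), (144, 1), (145, 1), (149, 1), (157, 1), (158, 1), (160, 1), (163, 1), (164, 1), (165, 1), (169, 1), (171, 1), (173, 1), (174, 1), (176, 1), (178, 1), (180, 1), (183, 1), (187, 1), (190, 1), (193, 1)]),
  (true, [(89, 1), (114, 1), (115, 1), (128, 1), (132, 1), (134, 1), (143, 1), (145, 1), (148, 1), (159, 1), (163, 1), (164, 1), (165, 1), (170, 1), (173, 1), (177, 1), (178, 1), (180, 1), (184, 1), (185, 1), (187, 1), (192, 1), (193, 1), (194, 1)]),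
  (true, [(117, 1), (120, 1), (131, 1), (134, 1), (135, 1), (143, 1), (157, 1), (173, 1), (176, 1), (177, 1), (178, 1), (179, 1), (187, 1), (190, 1)]),
  (true, [(115, 1), (120, 1), (129, 1), (134, 1), (135, 1), (145, 1), (149, 1), (150, 1), (171, 1), (173, 1), (176, 1), (177, 1), (180, 1), (185, 1), (187, 1), (190, 1), (192, 1)]),
  (true, [(89, 1), (112, 1), (118, 1), (126, 1), (132, 1), (140, 1), (144, 1), (145, 1), (150, 1), (158, 1), (159, 1), (160, 1), (165, 1), (168, 1), (172, 1), (174, 1), (178, 1), (180, 1), (186, 1), (188, 1), (190, 1), (192, 1), (194, 1)]),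
  (true, [(89, 1), (102, 1), (103, 1), (104, 1), (113, 1), (117, 1), (118, 1), (119, 1), (127, 1), (130, 1), (133, 1), (134, 1), (141, 1), (145, 1), (146, 1), (148, 1), (150, 1), (158, 1), (160, 1), (161, 1), (162, 1), (164, 1), (165, 1), (169, 1), (172, 1), (173, 1), (174, 1), (180, 1), (191, 1), (193, 1), (194, 1)]),
  (true, [(114, 1), (116, 1), (117, 1), (128, 1), (131, 1), (142, 1), (144, 1), (145, 1), (162, 1), (163, 1), (164, 1), (170, 1), (176, 1), (177, 1), (178, 1), (179, 1), (186, 1), (187, 1), (190, 1), (191, 1), (195, 1)]),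
  (true, [(115, 1), (116, 1), (117, 1), (129, 1), (130, 1), (131, 1), (143, 1), (149, 1), (150, 1), (159, 1), (163, 1), (164, 1), (165, 1), (171, 1), (172, 1), (176, 1), (178, 1), (186, 1), (187, 1), (191, 1), (192, 1), (194, 1), (195, 1)]),
  (true, [(117, 1), (120, 1), (131, 1), (134, 1), (135, 1), (144, 1), (145, 1), (148, 1), (149, 1), (150, 1), (158, 1), (173, 1), (178, 1), (179, 1), (180, 1), (191, 1), (194, 1), (195, 1)]),
  (true, [(116, 1), (120, 1), (130, 1), (134, 1), (135, 1), (144, 1), (148, 1), (149, 1), (150, 1), (163, 1), (165, 1), (172, 1), (176, 1), (177, 1), (179, 1), (191, 1), (193, 1), (195, 1)]),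
  (true, [(174, 1), (180, 1), (188, 1), (194, 1), (195, 1)]),
  (true, [(86, 1), (89, 1), (98, 1), (100, 1), (103, 1), (104, 1), (117, 1), (126, 1), (128, 1), (131, 1), (132, 1), (134, 1), (148, 1), (154, 1), (156, 1), (159, 1), (160, 1), (162, 1), (165, 1), (168, 1), (169, 1), (173, 1), (174, 1), (176, 1), (177, 1), (182, 1), (183, 1), (191, 1), (193, 1), (195, 1)]),
  (true, [(104, 1), (105, 1), (132, 1), (133, 1), (135, 1), (160, 1), (161, 1), (163, 1), (165, 1), (174, 1), (180, 1), (188, 1), (189, 1), (191, 1), (193, 1), (194, 1), (195, 1)]),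
  (true, [(86, 1), (88, 1), (99, 1), (105, 1), (116, 1), (118, 1), (120, 1), (127, 1), (133, 1), (135, 1), (149, 1), (155, 1), (158, 1), (161, 1), (163, 1), (164, 1), (165, 1), (169, 1), (175, 1), (177, 1), (180, 1), (183, 1), (186, 1), (189, 1), (192, 1)]),
  (true, [(112, 1), (118, 1), (154, 1), (160, 1), (170, 1), (174, 1), (176, 1), (179, 1), (182, 1), (184, 1), (190, 1), (195, 1)]),
  (true, [(89, 1), (100, 1), (103, 1), (113, 1), (117, 1), (118, 1), (128, 1), (131, 1), (147, 1), (149, 1), (155, 1), (156, 1), (159, 1), (160, 1), (161, 1), (162, 1), (165, 1), (170, 1), (174, 1), (175, 1), (176, 1), (178, 1), (180, 1), (183, 1), (184, 1), (187, 1), (188, 1), (189, 1), (190, 1), (191, 1), (194, 1), (195, 1)]),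
  (true, [(89, 1), (112, 1), (117, 1), (118, 1), (126, 1), (131, 1), (134, 1), (140, 1), (145, 1), (148, 1), (149, 1), (163, 1), (168, 1), (171, 1), (174, 1), (176, 1), (177, 1), (178, 1), (179, 1), (182, 1), (185, 1), (188, 1), (191, 1), (193, 1), (194, 1)]),
  (true, [(88, 1), (89, 1), (101, 1), (102, 1), (103, 1), (113, 1), (117, 1), (118, 1), (119, 1), (120, 1), (127, 1), (129, 1), (130, 1), (132, 1), (133, 1), (134, 1), (135, 1), (141, 1), (145, 1), (146, 1), (148, 1), (150, 1), (157, 1), (158, 1), (161, 1), (162, 1), (169, 1), (171, 1), (172, 1), (174, 1), (176, 1), (177, 1), (180, 1), (183, 1), (185, 1), (186, 1), (187, 1), (188, 1), (190, 1), (192, 1), (193, 1), (194, 1)]),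
  (true, [(89, 1), (114, 1), (115, 1), (128, 1), (131, 1), (134, 1), (142, 1), (148, 1), (149, 1), (150, 1), (157, 1), (159, 1), (160, 1), (162, 1), (163, 1), (164, 1), (170, 1), (178, 1), (179, 1), (184, 1), (185, 1), (187, 1), (188, 1), (191, 1), (192, 1), (195, 1)]),
  (true, [(118, 1), (120, 1), (132, 1), (134, 1), (135, 1), (146, 1), (148, 1), (149, 1), (150, 1), (174, 1), (180, 1), (188, 1), (190, 1), (191, 1), (192, 1), (194, 1), (195, 1)]),
  (true, [(115, 1), (120, 1), (129, 1), (134, 1), (135, 1), (143, 1), (146, 1), (148, 1), (171, 1), (174, 1), (176, 1), (177, 1), (178, 1), (180, 1), (185, 1), (188, 1), (190, 1)]),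
  (true, [(89, 1), (112, 1), (117, 1), (126, 1), (131, 1), (140, 1), (145, 1), (146, 1), (160, 1), (164, 1), (168, 1), (172, 1), (174, 1), (178, 1), (179, 1), (182, 1), (186, 1), (192, 1), (193, 1)]),
  (true, [(89, 1), (102, 1), (103, 1), (104, 1), (113, 1), (117, 1), (118, 1), (119, 1), (127, 1), (130, 1), (133, 1), (134, 1), (141, 1), (145, 1), (148, 1), (158, 1), (161, 1), (162, 1), (169, 1), (172, 1), (179, 1), (183, 1), (186, 1), (187, 1), (189, 1), (190, 1), (191, 1), (192, 1), (193, 1), (194, 1), (195, 1)]),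
  (true, [(114, 1), (116, 1), (118, 1), (128, 1), (132, 1), (142, 1), (146, 1), (158, 1), (162, 1), (163, 1), (170, 1), (176, 1), (177, 1), (184, 1), (186, 1), (188, 1), (190, 1), (191, 1), (192, 1)]),
  (true, [(115, 1), (116, 1), (118, 1), (129, 1), (130, 1), (132, 1), (143, 1), (144, 1), (149, 1), (150, 1), (160, 1), (163, 1), (165, 1), (171, 1), (172, 1), (176, 1), (185, 1), (186, 1), (188, 1), (192, 1), (193, 1)]),
  (true, [(116, 1), (120, 1), (130, 1), (134, 1), (135, 1), (144, 1), (148, 1), (149, 1), (150, 1), (163, 1), (165, 1), (172, 1), (176, 1), (177, 1), (179, 1), (186, 1), (190, 1), (192, 1), (193, 1)]),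
  (true, [(140, 1), (146, 1), (154, 1), (160, 1), (173, 1), (174, 1), (178, 1), (179, 1), (182, 1), (187, 1), (188, 1), (193, 1), (194, 1), (195, 1)]),
  (true, [(103, 1), (104, 1), (131, 1), (132, 1), (141, 1), (155, 1), (159, 1), (160, 1), (161, 1), (173, 1), (174, 1), (177, 1), (178, 1), (179, 1), (183, 1), (187, 1), (192, 1), (194, 1)]),
  (true, [(117, 1), (118, 1), (142, 1), (146, 1), (148, 1), (156, 1), (159, 1), (162, 1), (164, 1), (178, 1), (180, 1), (184, 1), (187, 1), (188, 1), (190, 1), (192, 1)]),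
  (true, [(117, 1), (118, 1), (131, 1), (132, 1), (143, 1), (145, 1), (148, 1), (149, 1), (157, 1), (164, 1), (173, 1), (174, 1), (176, 1), (177, 1), (178, 1), (185, 1), (187, 1), (188, 1), (191, 1), (195, 1)]),
  (true, [(117, 1), (118, 1), (131, 1), (132, 1), (144, 1), (145, 1), (146, 1), (158, 1), (173, 1), (174, 1), (178, 1), (179, 1), (186, 1), (187, 1), (190, 1), (193, 1), (194, 1), (195, 1)]),
  (true, [(146, 1), (150, 1), (160, 1), (164, 1), (165, 1), (179, 1), (180, 1), (188, 1), (192, 1), (193, 1), (195, 1)]),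
  (true, [(145, 1), (146, 1), (150, 1), (159, 1), (160, 1), (164, 1), (165, 1), (187, 1), (192, 1), (193, 1), (195, 1)]),
  (true, [(119, 1), (120, 1), (161, 1), (162, 1), (165, 1), (189, 1), (190, 1), (193, 1), (195, 1)]),
  (true, [(112, 1), (120, 1), (154, 1), (162, 1), (165, 1), (175, 1), (179, 1), (180, 1), (182, 1), (189, 1), (190, 1), (194, 1)]),
  (true, [(100, 1), (103, 1), (113, 1), (114, 1), (117, 1), (119, 1), (126, 1), (128, 1), (131, 1), (140, 1), (148, 1), (154, 1), (155, 1), (156, 1), (162, 1), (165, 1), (175, 1), (178, 1), (179, 1), (180, 1), (183, 1), (184, 1), (190, 1), (191, 1), (192, 1), (193, 1), (194, 1), (195, 1)]),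
  (true, [(133, 1), (135, 1), (147, 1), (149, 1), (150, 1), (161, 1), (163, 1), (164, 1), (165, 1), (178, 1), (180, 1)])]

def eqsTwoP2 : List (Bool × Cfsg.Lib.Schur.Prime.Form) := [
  (true, [(100, 1), (102, 1), (104, 1), (119, 1), (127, 1), (133, 1), (135, 1), (141, 1), (147, 1), (149, 1), (150, 1), (155, 1), (163, 1), (175, 1), (176, 1), (177, 1), (179, 1), (180, 1), (186, 1), (188, 1), (189, 1), (190, 1), (191, 1), (192, 1)]),
  (true, [(114, 1), (119, 1), (156, 1), (161, 1), (175, 1), (176, 1), (180, 1), (182, 1), (184, 1), (190, 1), (193, 1)]),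
  (true, [(84, 1), (85, 1), (86, 1), (88, 1), (98, 1), (100, 1), (102, 1), (104, 1), (105, 1), (114, 1), (118, 1), (127, 1), (134, 1), (140, 1), (142, 1), (144, 1), (148, 1), (149, 1), (154, 1), (155, 1), (158, 1), (160, 1), (162, 1), (164, 1), (165, 1), (168, 1), (169, 1), (175, 1), (177, 1), (183, 1), (186, 1), (191, 1), (192, 1), (193, 1), (195, 1), (201, 1), (203, 1), (207, 1)]),
  (true, [(0, 1), (15, 1), (28, 1), (30, 1), (56, 1), (58, 1), (60, 1), (72, 1), (74, 1), (85, 1), (86, 1), (88, 1), (90, 1), (98, 1), (99, 1), (100, 1), (102, 1), (112, 1), (117, 1), (118, 1), (119, 1), (120, 1), (128, 1), (131, 1), (134, 1), (135, 1), (142, 1), (144, 1), (145, 1), (148, 1), (154, 1), (155, 1), (160, 1), (161, 1), (162, 1), (163, 1), (165, 1), (168, 1), (169, 1), (170, 1), (172, 1), (174, 1), (176, 1), (178, 1), (182, 1), (184, 1), (187, 1), (190, 1), (192, 1), (202, 1), (204, 1), (206, 1), (207, 1)]),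
  (true, [(84, 1), (87, 1), (88, 1), (98, 1), (101, 1), (102, 1), (103, 1), (104, 1), (115, 1), (116, 1), (119, 1), (132, 1), (133, 1), (135, 1), (140, 1), (143, 1), (144, 1), (147, 1), (148, 1), (150, 1), (154, 1), (160, 1), (161, 1), (162, 1), (164, 1), (168, 1), (172, 1), (173, 1), (174, 1), (176, 1), (187, 1), (188, 1), (189, 1), (190, 1), (192, 1), (195, 1), (201, 1), (204, 1), (205, 1), (206, 1)]),
  (true, [(28, 1), (42, 1), (44, 1), (58, 1), (59, 1), (70, 1), (71, 1), (72, 1), (73, 1), (74, 1), (75, 1), (84, 1), (86, 1), (87, 1), (88, 1), (90, 1), (98, 1), (101, 1), (102, 1), (113, 1), (120, 1), (126, 1), (127, 1), (128, 1), (129, 1), (131, 1), (132, 1), (134, 1), (141, 1), (142, 1), (143, 1), (154, 1), (161, 1), (165, 1), (169, 1), (171, 1), (172, 1), (176, 1), (178, 1), (184, 1), (185, 1), (190, 1), (193, 1), (201, 1), (203, 1), (207, 1)]),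
  (true, [(0, 1), (42, 1), (45, 1), (56, 1), (59, 1), (60, 1), (70, 1), (73, 1), (75, 1), (84, 1), (87, 1), (112, 1), (116, 1), (126, 1), (129, 1), (130, 1), (131, 1), (132, 1), (134, 1), (135, 1), (143, 1), (144, 1), (145, 1), (146, 1), (149, 1), (159, 1), (162, 1), (163, 1), (164, 1), (168, 1), (173, 1), (174, 1), (176, 1), (177, 1), (182, 1), (185, 1), (186, 1), (187, 1), (190, 1), (193, 1), (194, 1), (201, 1), (204, 1), (205, 1), (206, 1)]),
  (true, [(84, 1), (86, 1), (87, 1), (89, 1), (98, 1), (101, 1), (102, 1), (115, 1), (119, 1), (120, 1), (128, 1), (130, 1), (133, 1), (135, 1), (140, 1), (143, 1), (144, 1), (145, 1), (146, 1), (149, 1), (154, 1), (156, 1), (158, 1), (159, 1), (160, 1), (162, 1), (165, 1), (168, 1), (170, 1), (172, 1), (173, 1), (176, 1), (178, 1), (179, 1), (180, 1), (184, 1), (187, 1), (188, 1), (189, 1), (190, 1), (195, 1), (201, 1), (204, 1), (206, 1)]),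
  (true, [(28, 1), (29, 1), (42, 1), (44, 1), (57, 1), (58, 1), (59, 1), (71, 1), (73, 1), (74, 1), (84, 1), (85, 1), (87, 1), (88, 1), (89, 1), (98, 1), (99, 1), (100, 1), (101, 1), (102, 1), (103, 1), (104, 1), (105, 1), (113, 1), (120, 1), (126, 1), (128, 1), (129, 1), (130, 1), (131, 1), (133, 1), (134, 1), (135, 1), (141, 1), (143, 1), (144, 1), (145, 1), (147, 1), (148, 1), (149, 1), (150, 1), (154, 1), (158, 1), (159, 1), (161, 1), (162, 1), (165, 1), (168, 1), (169, 1), (170, 1), (171, 1), (172, 1), (173, 1), (174, 1), (175, 1), (182, 1), (183, 1), (185, 1), (190, 1), (191, 1), (193, 1), (203, 1)]),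
  (true, [(70, 1), (72, 1), (73, 1), (103, 1), (114, 1), (116, 1), (117, 1), (118, 1), (119, 1), (128, 1), (131, 1), (134, 1), (142, 1), (143, 1), (144, 1), (149, 1), (157, 1), (160, 1), (161, 1), (162, 1), (168, 1), (170, 1), (172, 1), (173, 1), (177, 1), (178, 1), (179, 1), (182, 1), (185, 1), (187, 1), (188, 1), (189, 1), (191, 1), (194, 1), (205, 1), (206, 1), (207, 1)]),
  (true, [(0, 1), (30, 1), (42, 1), (45, 1), (56, 1), (58, 1), (59, 1), (72, 1), (84, 1), (86, 1), (87, 1), (88, 1), (90, 1), (100, 1), (102, 1), (103, 1), (104, 1), (105, 1), (112, 1), (114, 1), (117, 1), (118, 1), (119, 1), (126, 1), (129, 1), (130, 1), (131, 1), (135, 1), (142, 1), (144, 1), (146, 1), (147, 1), (148, 1), (149, 1), (150, 1), (157, 1), (158, 1), (159, 1), (161, 1), (163, 1), (165, 1), (170, 1), (176, 1), (177, 1), (179, 1), (180, 1), (184, 1), (186, 1), (187, 1), (188, 1), (189, 1), (190, 1), (192, 1), (201, 1), (205, 1), (207, 1)]),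
  (true, [(84, 1), (87, 1), (88, 1), (100, 1), (102, 1), (115, 1), (116, 1), (119, 1), (126, 1), (128, 1), (129, 1), (134, 1), (143, 1), (144, 1), (146, 1), (154, 1), (156, 1), (161, 1), (162, 1), (163, 1), (168, 1), (170, 1), (171, 1), (172, 1), (176, 1), (177, 1), (178, 1), (182, 1), (186, 1), (193, 1), (194, 1), (201, 1), (204, 1), (206, 1), (207, 1)]),
  (true, [(14, 1), (28, 1), (29, 1), (30, 1), (43, 1), (44, 1), (56, 1), (72, 1), (84, 1), (85, 1), (88, 1), (98, 1), (100, 1), (101, 1), (112, 1), (113, 1), (117, 1), (118, 1), (126, 1), (127, 1), (128, 1), (130, 1), (131, 1), (133, 1), (134, 1), (135, 1), (140, 1), (142, 1), (144, 1), (149, 1), (150, 1), (154, 1), (156, 1), (158, 1), (159, 1), (161, 1), (162, 1), (163, 1), (168, 1), (169, 1), (172, 1), (173, 1), (174, 1), (176, 1), (178, 1), (179, 1), (183, 1), (184, 1), (188, 1), (190, 1), (191, 1), (193, 1), (201, 1), (202, 1), (203, 1), (204, 1), (205, 1), (206, 1), (207, 1)]),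
  (true, [(28, 1), (44, 1), (56, 1), (58, 1), (59, 1), (70, 1), (86, 1), (87, 1), (89, 1), (115, 1), (116, 1), (129, 1), (130, 1), (131, 1), (132, 1), (134, 1), (142, 1), (143, 1), (144, 1), (145, 1), (146, 1), (149, 1), (160, 1), (164, 1), (165, 1), (168, 1), (171, 1), (174, 1), (177, 1), (178, 1), (179, 1), (180, 1), (184, 1), (193, 1), (194, 1), (195, 1), (205, 1)]),
  (true, [(70, 1), (73, 1), (84, 1), (87, 1), (89, 1), (98, 1), (100, 1), (101, 1), (104, 1), (116, 1), (118, 1), (119, 1), (120, 1), (126, 1), (128, 1), (130, 1), (131, 1), (134, 1), (135, 1), (142, 1), (143, 1), (145, 1), (146, 1), (147, 1), (148, 1), (150, 1), (157, 1), (159, 1), (160, 1), (163, 1), (165, 1), (168, 1), (170, 1), (172, 1), (173, 1), (174, 1), (176, 1), (178, 1), (182, 1), (185, 1), (188, 1), (190, 1), (191, 1), (193, 1), (194, 1), (195, 1), (201, 1)]),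
  (true, [(0, 1), (28, 1), (42, 1), (44, 1), (45, 1), (58, 1), (60, 1), (72, 1), (75, 1), (84, 1), (87, 1), (89, 1), (112, 1), (114, 1), (117, 1), (120, 1), (126, 1), (128, 1), (129, 1), (131, 1), (132, 1), (134, 1), (135, 1), (142, 1), (143, 1), (146, 1), (148, 1), (150, 1), (156, 1), (157, 1), (162, 1), (163, 1), (164, 1), (168, 1), (170, 1), (176, 1), (180, 1), (182, 1), (186, 1), (187, 1), (188, 1), (191, 1), (193, 1), (201, 1), (204, 1), (206, 1), (207, 1)]),
  (true, [(132, 1), (133, 1), (147, 1), (160, 1), (161, 1), (163, 1), (164, 1), (174, 1), (175, 1), (177, 1), (178, 1), (192, 1), (206, 1)]),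
  (true, [(126, 1), (128, 1), (130, 1), (133, 1), (134, 1), (135, 1), (140, 1), (141, 1), (146, 1), (147, 1), (149, 1), (150, 1), (154, 1), (158, 1), (160, 1), (161, 1), (164, 1), (165, 1), (169, 1), (170, 1), (172, 1), (175, 1), (180, 1), (184, 1), (186, 1), (193, 1), (195, 1), (204, 1), (205, 1)]),
  (true, [(0, 1), (14, 1), (15, 1), (28, 1), (42, 1), (43, 1), (44, 1), (59, 1), (60, 1), (70, 1), (71, 1), (72, 1), (75, 1), (85, 1), (86, 1), (88, 1), (90, 1), (98, 1), (101, 1), (115, 1), (116, 1), (126, 1), (127, 1), (128, 1), (129, 1), (130, 1), (131, 1), (132, 1), (134, 1), (135, 1), (140, 1), (143, 1), (145, 1), (146, 1), (150, 1), (157, 1), (158, 1), (160, 1), (161, 1), (163, 1), (164, 1), (165, 1), (169, 1), (170, 1), (171, 1), (173, 1), (175, 1), (179, 1), (183, 1), (184, 1), (186, 1), (187, 1), (189, 1), (194, 1)]),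
  (true, [(0, 1), (28, 1), (70, 1), (72, 1), (75, 1), (84, 1), (89, 1), (112, 1), (117, 1), (118, 1), (140, 1), (145, 1), (148, 1), (150, 1), (156, 1), (162, 1), (164, 1), (165, 1), (168, 1), (173, 1), (174, 1), (178, 1), (180, 1), (182, 1), (187, 1), (190, 1), (193, 1), (194, 1)]),
  (true, [(0, 1), (14, 1), (15, 1), (28, 1), (42, 1), (43, 1), (44, 1), (45, 1), (56, 1), (57, 1), (58, 1), (71, 1), (73, 1), (75, 1), (84, 1), (85, 1), (98, 1), (102, 1), (104, 1), (105, 1), (114, 1), (115, 1), (117, 1), (120, 1), (128, 1), (133, 1), (141, 1), (142, 1), (143, 1), (144, 1), (147, 1), (148, 1), (150, 1), (155, 1), (159, 1), (160, 1), (161, 1), (163, 1), (164, 1), (165, 1), (168, 1), (172, 1), (175, 1), (179, 1), (182, 1), (183, 1), (187, 1), (189, 1), (190, 1), (191, 1), (193, 1), (195, 1)]),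
  (true, [(28, 1), (29, 1), (44, 1), (84, 1), (85, 1), (98, 1), (99, 1), (104, 1), (105, 1), (112, 1), (113, 1), (114, 1), (115, 1), (119, 1), (132, 1), (134, 1), (140, 1), (141, 1), (142, 1), (143, 1), (147, 1), (148, 1), (149, 1), (150, 1), (160, 1), (161, 1), (163, 1), (164, 1), (165, 1), (170, 1), (171, 1), (173, 1), (174, 1), (177, 1), (178, 1), (179, 1), (184, 1), (189, 1), (194, 1), (195, 1), (269, 1), (270, 1)]),
  (true, [(28, 1), (29, 1), (44, 1), (58, 1), (72, 1), (73, 1), (84, 1), (85, 1), (86, 1), (88, 1), (98, 1), (99, 1), (101, 1), (102, 1), (104, 1), (105, 1), (112, 1), (113, 1), (114, 1), (119, 1), (120, 1), (128, 1), (131, 1), (132, 1), (133, 1), (135, 1), (140, 1), (141, 1), (144, 1), (145, 1), (146, 1), (148, 1), (159, 1), (161, 1), (162, 1), (163, 1), (164, 1), (171, 1), (175, 1), (178, 1), (185, 1), (186, 1), (187, 1), (192, 1), (195, 1), (269, 1), (270, 1)])]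

/-- The equations. -/
def eqsTwo : List (Bool × Cfsg.Lib.Schur.Prime.Form) := eqsTwoP0 ++ eqsTwoP1 ++ eqsTwoP2

theorem eqsTwo_lit : (certTwo.eqs == eqsTwo) = true := by decide +kernel

theorem baseTwo : (Nat.blt 1 certTwo.p && eqsTwo.all (·.1) && certTwo.shapesOK) = true := by decide +kernel

theorem selTwo0 : certTwo.rowOK eqsTwo 0 = true := by decide +kernel

theorem selTwo1 : certTwo.rowOK eqsTwo 1 = true := by decide +kernel

theorem selTwo2 : certTwo.rowOK eqsTwo 2 = true := by decide +kernel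

theorem selTwo3 : certTwo.rowOK eqsTwo 3 = true := by decide +kernel

theorem selTwo4 : certTwo.rowOK eqsTwo 4 = true := by decide +kernel

theorem selTwo5 : certTwo.rowOK eqsTwo 5 = true := by decide +kernel

theorem selTwo6 : certTwo.rowOK eqsTwo 6 = true := by decide +kernel

theorem selTwo7 : certTwo.rowOK eqsTwo 7 = true := by decide +kernel

theorem selTwo8 : certTwo.rowOK eqsTwo 8 = true := by decide +kernel

theorem selTwo9 : certTwo.rowOK eqsTwo 9 = true := by decide +kernel

theorem selTwo10 : certTwo.rowOK eqsTwo 10 = true := by decide +kernel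

theorem selTwo11 : certTwo.rowOK eqsTwo 11 = true := by decide +kernel

theorem selTwo12 : certTwo.rowOK eqsTwo 12 = true := by decide +kernel

theorem selTwo13 : certTwo.rowOK eqsTwo 13 = true := by decide +kernel

theorem certTwo_ok : certTwo.ok = true :=
  Cert.ok_of_lit certTwo eqsTwo_lit baseTwo fun j hj => match j, hj with
    | 0, _ => selTwo0
    | 1, _ => selTwo1
    | 2, _ => selTwo2
    | 3, _ => selTwo3
    | 4, _ => selTwo4
    | 5, _ => selTwo5
    | 6, _ => selTwo6
    | 7, _ => selTwo7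
    | 8, _ => selTwo8
    | 9, _ => selTwo9
    | 10, _ => selTwo10
    | 11, _ => selTwo11
    | 12, _ => selTwo12
    | 13, _ => selTwo13
    | _ + 14, h => absurd h (by simp [certTwo])

end Cfsg.Lib.OEightCover
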