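import Cfsg.Agent.OEightCover.Data
import Cfsg.Agent.OEightCover.CertTwo
import Cfsg.Agent.OEightCover.Forms

/-!
Computations on the three involutions generating the fourfold cover.
-/

set_option autoImplicit false
set_option maxRecDepth 100000
set_option Elab.async false

namespace Cfsg.Lib.OEightCover

open Cfsg.Lib.PermCert Cfsg.Lib.CosetCert

/-- A letter on the points. -/
def tab (l : ℕ) : ℕ := (covTabs.getD l (0, 0)).1

theorem valid720 : covTabs.all (valid 720) = true := by decide +kernel

theorem valid120 : covTabs.all (valid 120) = true := by decide +kernel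

theorem covTabs_sq : ((List.range 3).all fun l => trivWord 720 covTabs [l, l]) = true := by decide +kernel

theorem chain_ok : chainOK covTabs 720 3 (covChain.map SLev.lev) = true := by decide +kernel

theorem chain_idx : covChain.all (SLev.ok covTabs) = true := by decide +kernel

theorem chain_size : chainSize (covChain.map SLev.lev) = 696729600 ∧ covTabs.length = 3 := by decide +kernel

theorem first_orbit : ((List.range 120).all fun q => (q == 0) || (covChain.take 1).any fun S =>
    S.lev.gens.any fun w => (w.all fun l => decide (l < 3)) && (evalW covTabs w 0 == q)) = true := by decide +kernel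

/-- The pair of a root. -/
def pairOf (r : ℕ) : ℕ := ap pairTab r

/-- The opposite root. -/
def negOf (r : ℕ) : ℕ := ap negTab r

/-- The roots at acute angle to one. -/
def nbr (r : ℕ) : ℕ := (nbrMasks.getD (r / 20) []).getD (r % 20) 0

/-- The image of a set of roots. -/
def imgMask (f : ℕ → ℕ) (m : ℕ) : ℕ :=
  (List.range 240).foldl (fun acc s => bif m.testBit s then acc ||| 2 ^ f s else acc) 0

/-- A letter respects pairs and angles on one half. -/
def halfOK (l h p : ℕ) : Bool :=
  (List.range 240).all fun r => decide (h + 240 ≤ 720) && Nat.ble h (ap (tab l) (h + r)) &&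
    Nat.blt (ap (tab l) (h + r)) (h + 240) &&
    (ap (tab l) (p + pairOf r) == p + pairOf (ap (tab l) (h + r) - h)) &&
    (imgMask (fun s => ap (tab l) (h + s) - h) (nbr r) == nbr (ap (tab l) (h + r) - h))

theorem half_0 : halfOK 0 240 0 = true ∧ halfOK 0 480 120 = true := by decide +kernel
theorem half_1 : halfOK 1 240 0 = true ∧ halfOK 1 480 120 = true := by decide +kernel
theorem half_2 : halfOK 2 240 0 = true ∧ halfOK 2 480 120 = true := by decide +kernel

theorem first_root : negOf 0 < 240 ∧ (treeEdges.getD 0 (0, 0)).2 < 240 := by decide +kernel

theorem roots_ok : ((List.range 240).all fun r => decide (negOf r < 240) && (negOf r != r) &&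
    decide (pairOf r < 120) && (pairOf (negOf r) == pairOf r) &&
    (List.range 240).all fun s => !((nbr r).testBit s && (nbr r).testBit (negOf s))) = true := by decide +kernel

theorem pairs_two : ((List.range 120).all fun p =>
    ((List.range 240).filter fun r => pairOf r == p).length == 2) = true := by decide +kernel

/-- The pairs reached along a list of edges. -/
def reach : List (ℕ × ℕ) → List ℕ → List ℕ
  | [], S => S
  | e :: l, S => reach l (bif S.contains (pairOf e.2) then pairOf e.1 :: S else S)

theorem tree_ok : (treeEdges.all fun e => decide (e.1 < 240) && decide (e.2 < 240) && (nbr e.2).testBit e.1) = true ∧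
    ((List.range 120).all fun p => (reach treeEdges [pairOf (treeEdges.getD 0 (0, 0)).2]).contains p) = true := by
  decide +kernel

/-- The multiplication by a point of the second half, on the first. -/
def phiT (x : ℕ) : PP := (phiTabs.getD (x / 12) []).getD (x % 12) (0, 0)

theorem phi_valid : ((List.range 120).all fun x => valid 120 (phiT x)) = true := by decide +kernel

theorem phi_unit : unitPt < 120 ∧ ((List.range 120).all fun z => ap (phiT unitPt).1 z == z) = true := by
  decide +kernel

/-- A letter respects the multiplication. -/
def phiOK (l : ℕ) : Bool :=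
  let A := fun z => ap (tab l) z
  let B := fun x => ap (tab l) (120 + x) - 120
  (List.range 120).all fun x => Nat.ble 120 (ap (tab l) (120 + x)) && Nat.blt (ap (tab l) (120 + x)) 240 &&
    (List.range 120).all fun z => A (ap (phiT x).1 z) == ap (phiT (B x)).1 (ap (phiT (B unitPt)).2 (A z))

theorem phi_0 : phiOK 0 = true := by decide +kernel
theorem phi_1 : phiOK 1 = true := by decide +kernel
theorem phi_2 : phiOK 2 = true := by decide +kernel

theorem phi_sep : ((List.range 120).all fun b => (b == unitPt) || decide (ap sepTab b < 120) &&
    (List.range 120).all fun a => (List.range sepLen).any fun z =>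
      ap (phiT (ap sepTab b)).1 (ap (phiT b).1 z) != ap (phiT a).1 z) = true := by decide +kernel

theorem phi_distinct : sepLen ≤ 120 ∧ ((List.range 120).all fun a => (List.range a).all fun c =>
    (List.range sepLen).any fun z => ap (phiT a).1 z != ap (phiT c).1 z) = true := by decide +kernel

/-- The vector of a point. -/
def vcode (p : ℕ) : ℕ := ap vecTab p

/-- The matrix of a letter applied to a vector. -/
def appM (l c : ℕ) : ℕ :=
  (List.range 8).foldl (fun acc k => bif c.testBit k then acc ^^^ (matCols.getD l []).getD k 0 else acc) 0

/-- The quadratic form on a vector. -/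
def qcode (c : ℕ) : Bool := (List.range 4).foldl (fun acc k => xor acc (c.testBit k && c.testBit (k + 4))) false

theorem vec_ok : ((List.range 120).all fun p => decide (vcode p < 256) && (List.range p).all fun q => vcode p != vcode q) = true ∧
    ((List.range 8).all fun k => decide ((unitPairs.getD k (0, 0)).1 < 120) && decide ((unitPairs.getD k (0, 0)).2 < 120) &&
      ((vcode (unitPairs.getD k (0, 0)).1 ^^^ vcode (unitPairs.getD k (0, 0)).2) == 2 ^ k)) = true := by decide +kernel

theorem mat_ok : ((List.range 3).all fun l => ((List.range 120).all fun p => appM l (vcode p) == vcode (ap (tab l) p)) &&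
    (List.range 256).all fun c => decide (appM l c < 256) && (qcode (appM l c) == qcode c) && (appM l (appM l c) == c)) = true := by
  decide +kernel

/-- Two words have the same images of the base points. -/
def sameC (w u : List ℕ) : Bool :=
  (w.all fun l => decide (l < 3)) && (u.all fun l => decide (l < 3)) &&
    covChain.all fun S => evalW covTabs w S.lev.b == evalW covTabs u S.lev.b

/-- The facts about one of the central involutions. -/
def zOK (z : List ℕ × List ℕ × List ℕ) : Bool :=
  (trivWord 120 covTabs z.1) && ((List.range 3).all fun l => sameC (z.1 ++ [l]) ([l] ++ z.1)) &&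
    sameC (z.2.1 ++ z.2.2 ++ z.2.1.reverse ++ z.2.2.reverse) z.1

theorem z_facts : zWords.length = 2 ∧ zWords.all zOK = true ∧
    covChain.any (fun S => evalW covTabs (zWords.getD 0 ([], [], [])).1 S.lev.b != S.lev.b) = true ∧
    covChain.any (fun S => evalW covTabs (zWords.getD 1 ([], [], [])).1 S.lev.b != S.lev.b) = true ∧
    covChain.any (fun S => evalW covTabs (zWords.getD 0 ([], [], [])).1 S.lev.b !=
      evalW covTabs (zWords.getD 1 ([], [], [])).1 S.lev.b) = true ∧
    ncPair.1 < 3 ∧ ncPair.2 < 3 ∧
    (List.range 120).any (fun x => evalW covTabs [ncPair.1, ncPair.2] x != evalW covTabs [ncPair.2, ncPair.1] x) = true := by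
  decide +kernel

theorem coms_ok : ((List.range 3).all fun l => trivWord 120 covTabs
    (l :: ((letterComs.getD l ([], [])).1 ++ (letterComs.getD l ([], [])).2 ++
      (letterComs.getD l ([], [])).1.reverse ++ (letterComs.getD l ([], [])).2.reverse))) = true := by decide +kernel

theorem first_fixes_one : ((List.range 120).all fun q => (q == 0) ||
    ((covChain.drop 1).take 5).any fun S => S.lev.gens.any fun w => evalW covTabs w q != q) = true ∧
    ((covChain.drop 1).take 5).all (fun S => S.lev.gens.all fun w =>
      w.all (fun l => decide (l < 3)) && (evalW covTabs w 0 == 0)) = true := by decide +kernel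

/-- The word of a product of generators. -/
def pcFlat (pcw : List (List ℕ)) (l : List ℕ) : List ℕ := l.flatMap fun k => pcw.getD k []

/-- The rules with a given first index. -/
def ruleC (c : Cfsg.Lib.Schur.Prime.Cert) (pcw : List (List ℕ)) (j : ℕ) : Bool :=
  (List.range (j + 1)).all fun i => sameC (pcFlat pcw (c.lhs j i)) (pcFlat pcw (c.tail j i))

/-- The conjugations. -/
def fusC (c : Cfsg.Lib.Schur.Prime.Cert) (pcw fw : List (List ℕ)) : Bool :=
  (List.range c.fuse.length).all fun f =>
    (List.range (c.fuse.getD f ([], [], [])).1.length).all fun k =>
      sameC (fw.getD f [] ++ pcFlat pcw ((c.fuse.getD f ([], [], [])).1.getD k []))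
        (pcFlat pcw ((c.fuse.getD f ([], [], [])).2.1.getD k []) ++ fw.getD f [])

/-- The chain of a Sylow subgroup as levels. -/
def levsOf (pcw : List (List ℕ)) (levels : List (ℕ × List (List ℕ) × List (ℕ × ℕ × ℕ))) : List Lev :=
  levels.map fun L => ⟨L.1, L.2.1.map (pcFlat pcw), L.2.2⟩

/-- The Sylow subgroup is large enough. -/
def countC (c : Cfsg.Lib.Schur.Prime.Cert) (pcw : List (List ℕ))
    (levels : List (ℕ × List (List ℕ) × List (ℕ × ℕ × ℕ))) : Bool :=
  (levels.all fun L => L.2.1.all fun l => l.all fun k => decide (k < c.n)) &&
    chainOK covTabs 720 3 (levsOf pcw levels) && decide (chainSize (levsOf pcw levels) = c.p ^ c.n)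

theorem certThree_ok : certThree.ok = true := by decide +kernel

theorem certFive_ok : certFive.ok = true := by decide +kernel

theorem rulesTwo : ((List.range' 0 14).all fun j => ruleC certTwo pcwTwo j) = true := by decide +kernel

theorem rulesThree : ((List.range' 0 5).all fun j => ruleC certThree pcwThree j) = true := by decide +kernel

theorem rulesFive : ((List.range' 0 2).all fun j => ruleC certFive pcwFive j) = true := by decide +kernel

theorem fusTwo : fusC certTwo pcwTwo fwTwo = true := by decide +kernel

theorem fusThree : fusC certThree pcwThree fwThree = true := by decide +kernel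

theorem fusFive : fusC certFive pcwFive fwFive = true := by decide +kernel

theorem countTwo : countC certTwo pcwTwo sylTwo = true := by decide +kernel

theorem countThree : countC certThree pcwThree sylThree = true := by decide +kernel

theorem countFive : countC certFive pcwFive sylFive = true := by decide +kernel

end Cfsg.Lib.OEightCover
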