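import Cfsg.Agent.OEightCover.Checks
import Cfsg.Agent.CosetCert.Kit
import Cfsg.Agent.S0293
import Cfsg.Prelude.Def_KGroupFacts
import Mathlib.GroupTheory.SpecificGroups.KleinFour

/-!
The group generated by three permutations of 720 points as a fourfold central extension of the orthogonal group of
plus type in dimension eight over two elements.
-/

set_option autoImplicit false
set_option maxHeartbeats 1000000
set_option maxRecDepth 100000
set_option linter.style.haveILetI false

namespace Cfsg.Lib.OEightCover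

open Cfsg.Lib.PermCert Cfsg.Lib.CosetCert
open scoped commutatorElement Matrix

/-- The three involutions. -/
def imC (l : ℕ) : Equiv.Perm (Fin 720) := perm 720 (covTabs.getD l (0, 0))

theorem covTabs_length : covTabs.length = 3 := chain_size.2

theorem tab720 {l : ℕ} (hl : l < 3) : valid 720 (covTabs.getD l (0, 0)) = true := by
  rw [List.getD_eq_getElem _ _ (covTabs_length.symm ▸ hl)]
  exact List.all_eq_true.1 valid720 _ (List.getElem_mem _)

theorem tab120 {l : ℕ} (hl : l < 3) : valid 120 (covTabs.getD l (0, 0)) = true := by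
  rw [List.getD_eq_getElem _ _ (covTabs_length.symm ▸ hl)]
  exact List.all_eq_true.1 valid120 _ (List.getElem_mem _)

theorem imC_sq {l : ℕ} (hl : l < 3) : imC l * imC l = 1 := by
  have h := List.all_eq_true.1 covTabs_sq l (List.mem_range.2 hl)
  simp only [trivWord, Bool.and_eq_true] at h
  simpa [wperm, imC] using isId_sound (w := [l, l].map fun l => covTabs.getD l (0, 0))
    (fun g hg => by
      obtain ⟨l', hl', rfl⟩ := List.mem_map.1 hg
      exact tab720 (by simp at hl'; omega)) h.2

/-- The generated group. -/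
abbrev Cover : Type := ↥(lgp imC (List.range 3))

/-- The letters. -/
def imD (l : ℕ) : Cover := if h : l < 3 then ⟨imC l, lgp_mem imC (List.mem_range.2 h)⟩ else 1

theorem coe_imD {l : ℕ} (hl : l < 3) : ((imD l : Cover) : Equiv.Perm (Fin 720)) = imC l := by
  rw [imD, dif_pos hl]

theorem imD_sq {l : ℕ} (hl : l < 3) : imD l * imD l = 1 :=
  Subtype.ext (by rw [Subgroup.coe_mul, coe_imD hl]; exact imC_sq hl)

theorem tabledD : Tabled imD (lgp imC (List.range 3)).subtype covTabs where
  act := fun l hl => ⟨tab720 (covTabs_length ▸ hl), coe_imD (covTabs_length ▸ hl)⟩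
  sq := fun l hl => imD_sq (covTabs_length ▸ hl)

theorem top_eq {P : Subgroup Cover} (h : ∀ l < 3, imD l ∈ P) : P = ⊤ := by
  have hle : lgp imC (List.range 3) ≤ P.map (lgp imC (List.range 3)).subtype := by
    refine (Subgroup.closure_le _).2 ?_
    rintro _ ⟨l, hl, rfl⟩
    exact ⟨imD l, h l (List.mem_range.1 hl), coe_imD (List.mem_range.1 hl)⟩
  refine eq_top_iff.2 fun g _ => ?_
  obtain ⟨g', hg', e⟩ := hle g.2
  exact Subtype.ext e ▸ hg'

/-- A point of a block. -/
def blockPt {m : ℕ} (h : ℕ) (hh : h + m ≤ 720) (x : Fin m) : Fin 720 :=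
  ⟨h + x.val, lt_of_lt_of_le (Nat.add_lt_add_left x.isLt h) hh⟩

theorem blockPt_inj {m : ℕ} (h : ℕ) (hh : h + m ≤ 720) : Function.Injective (blockPt (m := m) h hh) :=
  fun x y e => Fin.ext (by have := congrArg Fin.val e; simp only [blockPt] at this; omega)

/-- The permutations preserving a block. -/
def Rest (h m : ℕ) (hh : h + m ≤ 720) : Subgroup (Equiv.Perm (Fin 720)) where
  carrier := {g | ∃ q : Equiv.Perm (Fin m), ∀ x, g (blockPt h hh x) = blockPt h hh (q x)}
  one_mem' := ⟨1, fun _ => rfl⟩
  mul_mem' := by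
    rintro g k ⟨q, hq⟩ ⟨r, hr⟩
    exact ⟨q * r, fun x => by rw [Equiv.Perm.mul_apply, hr, hq, Equiv.Perm.mul_apply]⟩
  inv_mem' := by
    rintro g ⟨q, hq⟩
    refine ⟨q⁻¹, fun x => g.injective ?_⟩
    rw [hq, Equiv.Perm.coe_inv, Equiv.Perm.coe_inv, Equiv.apply_symm_apply, Equiv.apply_symm_apply]

/-- The letters keep a block. -/
def Keeps (h m : ℕ) : Prop := ∀ l < 3, ∀ x < m, h ≤ ap (tab l) (h + x) ∧ ap (tab l) (h + x) < h + m

theorem imC_block {h m : ℕ} (hh : h + m ≤ 720) {l : ℕ} (hl : l < 3) (x : Fin m) :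
    (imC l (blockPt h hh x)).val = ap (tab l) (h + x.val) := perm_apply (tab720 hl) _

theorem cover_le {h m : ℕ} (hh : h + m ≤ 720) (hk : Keeps h m) : lgp imC (List.range 3) ≤ Rest h m hh := by
  refine (Subgroup.closure_le _).2 ?_
  rintro _ ⟨l, hl, rfl⟩
  have hl' := List.mem_range.1 hl
  let f : Fin m → Fin m := fun x => ⟨ap (tab l) (h + x.val) - h, by have := hk l hl' x.val x.isLt; omega⟩
  have hf : ∀ x, imC l (blockPt h hh x) = blockPt h hh (f x) := fun x => Fin.ext (by
    rw [imC_block hh hl']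
    have := hk l hl' x.val x.isLt
    simp only [blockPt, f]
    omega)
  have hinj : Function.Injective f := fun x y e => blockPt_inj h hh ((imC l).injective (by rw [hf, hf, e]))
  exact ⟨Equiv.ofBijective f (Finite.injective_iff_bijective.1 hinj), hf⟩

/-- The action on a block. -/
noncomputable def res (h m : ℕ) (hh : h + m ≤ 720) (hk : Keeps h m) : Cover →* Equiv.Perm (Fin m) :=
  MonoidHom.mk' (fun g => (cover_le hh hk g.2).choose) fun g k => Equiv.ext fun x => blockPt_inj h hh (by
    rw [← (cover_le hh hk (g * k).2).choose_spec x, Subgroup.coe_mul, Equiv.Perm.mul_apply,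
      (cover_le hh hk k.2).choose_spec x, (cover_le hh hk g.2).choose_spec, Equiv.Perm.mul_apply])

theorem res_spec {h m : ℕ} (hh : h + m ≤ 720) (hk : Keeps h m) (g : Cover) (x : Fin m) :
    (g : Equiv.Perm (Fin 720)) (blockPt h hh x) = blockPt h hh (res h m hh hk g x) :=
  (cover_le hh hk g.2).choose_spec x

theorem res_imD {h m : ℕ} (hh : h + m ≤ 720) (hk : Keeps h m) {l : ℕ} (hl : l < 3) (x : Fin m) :
    (res h m hh hk (imD l) x).val = ap (tab l) (h + x.val) - h := by
  have e := congrArg Fin.val (res_spec hh hk (imD l) x)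
  rw [coe_imD hl, imC_block hh hl] at e
  simp only [blockPt] at e
  omega

theorem phi_ok {l : ℕ} (hl : l < 3) : phiOK l = true := by
  interval_cases l
  exacts [phi_0, phi_1, phi_2]

theorem half_ok {l : ℕ} (hl : l < 3) : halfOK l 240 0 = true ∧ halfOK l 480 120 = true := by
  interval_cases l
  exacts [half_0, half_1, half_2]

theorem keepsA : Keeps 0 120 := fun l hl x hx => by
  rw [Nat.zero_add, Nat.zero_add]
  exact ⟨Nat.zero_le _, valid_lt (tab120 hl) hx⟩

theorem keepsB : Keeps 120 120 := fun l hl x hx => by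
  have h := List.all_eq_true.1 (phi_ok hl) x (List.mem_range.2 hx)
  simp only [Bool.and_eq_true] at h
  exact ⟨Nat.le_of_ble_eq_true h.1.1, Nat.le_of_ble_eq_true h.1.2⟩

theorem half_facts {l : ℕ} (hl : l < 3) {h p : ℕ} (hc : halfOK l h p = true) {x : ℕ} (hx : x < 240) :
    (h ≤ ap (tab l) (h + x) ∧ ap (tab l) (h + x) < h + 240) ∧
      ap (tab l) (p + pairOf x) = p + pairOf (ap (tab l) (h + x) - h) ∧
      imgMask (fun s => ap (tab l) (h + s) - h) (nbr x) = nbr (ap (tab l) (h + x) - h) := by
  have h' := List.all_eq_true.1 hc x (List.mem_range.2 hx)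
  simp only [Bool.and_eq_true, beq_iff_eq] at h'
  exact ⟨⟨Nat.le_of_ble_eq_true h'.1.1.1.2, Nat.le_of_ble_eq_true h'.1.1.2⟩, h'.1.2, h'.2⟩

theorem keepsC : Keeps 240 240 := fun _ hl _ hx => (half_facts hl (half_ok hl).1 hx).1

theorem keepsD : Keeps 480 240 := fun _ hl _ hx => (half_facts hl (half_ok hl).2 hx).1

/-- The first pairs. -/
noncomputable def actA : Cover →* Equiv.Perm (Fin 120) := res 0 120 (by norm_num) keepsA

/-- The second pairs. -/
noncomputable def actB : Cover →* Equiv.Perm (Fin 120) := res 120 120 (by norm_num) keepsB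

/-- The first roots. -/
noncomputable def actC : Cover →* Equiv.Perm (Fin 240) := res 240 240 (by norm_num) keepsC

/-- The second roots. -/
noncomputable def actD : Cover →* Equiv.Perm (Fin 240) := res 480 240 (by norm_num) keepsD

/-- Elements commuting with a map between two actions. -/
def equivar {α β : Type} (u : Cover →* Equiv.Perm α) (v : Cover →* Equiv.Perm β) (f : α → β) :
    Subgroup Cover where
  carrier := {g | ∀ x, v g (f x) = f (u g x)}
  one_mem' := fun x => by simp
  mul_mem' := fun {g k} hg hk x => by simp only [map_mul, Equiv.Perm.mul_apply]; rw [hk, hg]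
  inv_mem' := fun {g} hg x => by
    refine (v g).injective ?_
    rw [hg, map_inv, map_inv, Equiv.Perm.coe_inv, Equiv.Perm.coe_inv, Equiv.apply_symm_apply,
      Equiv.apply_symm_apply]

/-- The pair of a root. -/
def pairF (r : Fin 240) : Fin 120 := ⟨pairOf r.val, by
  have h := List.all_eq_true.1 roots_ok r.val (List.mem_range.2 r.isLt)
  simp only [Bool.and_eq_true, decide_eq_true_eq] at h
  exact h.1.1.2⟩

/-- The opposite root. -/
def negF (r : Fin 240) : Fin 240 := ⟨negOf r.val, by
  have h := List.all_eq_true.1 roots_ok r.val (List.mem_range.2 r.isLt)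
  simp only [Bool.and_eq_true, decide_eq_true_eq] at h
  exact h.1.1.1.1⟩

theorem negF_facts (r : Fin 240) : negF r ≠ r ∧ pairF (negF r) = pairF r ∧
    ∀ s : Fin 240, (nbr r.val).testBit s.val = true → (nbr r.val).testBit (negF s).val = false := by
  have h := List.all_eq_true.1 roots_ok r.val (List.mem_range.2 r.isLt)
  simp only [Bool.and_eq_true, decide_eq_true_eq, bne_iff_ne, beq_iff_eq, List.all_eq_true, List.mem_range] at h
  refine ⟨fun e => h.1.1.1.2 (congrArg Fin.val e), Fin.ext h.1.2, fun s hs => ?_⟩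
  have := h.2 s.val s.isLt
  rw [hs] at this
  exact (Bool.not_eq_true _).mp fun q => by
    rw [show negOf s.val = (negF s).val from rfl, q] at this
    exact Bool.noConfusion this

theorem same_pair {r x : Fin 240} (h : pairF x = pairF r) : x = r ∨ x = negF r := by
  have hl := beq_iff_eq.1 (List.all_eq_true.1 pairs_two (pairF r).val (List.mem_range.2 (pairF r).isLt))
  obtain ⟨a, b, e⟩ := List.length_eq_two.1 hl
  have mem : ∀ y : Fin 240, pairF y = pairF r → y.val = a ∨ y.val = b := fun y hy => by
    have hy' : y.val ∈ (List.range 240).filter fun s => pairOf s == (pairF r).val :=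
      List.mem_filter.2 ⟨List.mem_range.2 y.isLt, beq_iff_eq.2 (congrArg Fin.val hy)⟩
    rw [e] at hy'
    simpa using hy'
  have h1 := mem x h
  have h2 := mem r rfl
  have h3 := mem (negF r) (negF_facts r).2.1
  have h4 : (negF r).val ≠ r.val := fun q => (negF_facts r).1 (Fin.ext q)
  rcases h1 with h1 | h1 <;> rcases h2 with h2 | h2 <;> rcases h3 with h3 | h3 <;>
    first | exact Or.inl (Fin.ext (by omega)) | exact Or.inr (Fin.ext (by omega))

theorem testBit_img (f : ℕ → ℕ) (m y : ℕ) :
    (imgMask f m).testBit y = true ↔ ∃ s < 240, m.testBit s = true ∧ f s = y := by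
  have key : ∀ (L : List ℕ) (acc : ℕ),
      (L.foldl (fun acc s => bif m.testBit s then acc ||| 2 ^ f s else acc) acc).testBit y = true ↔
        acc.testBit y = true ∨ ∃ s ∈ L, m.testBit s = true ∧ f s = y := by
    intro L
    induction L with
    | nil => intro acc; simp
    | cons a L ih =>
      intro acc
      rw [List.foldl_cons, ih]
      cases hb : m.testBit a
      · simp [hb]
      · simp [hb, Nat.testBit_or, Nat.testBit_two_pow, or_assoc]
  rw [imgMask, key]
  simp [List.mem_range]

theorem half_gen {h p : ℕ} (hh : h + 240 ≤ 720) (hp : p + 120 ≤ 720) (hk : Keeps h 240) (hkp : Keeps p 120)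
    (hc : ∀ l < 3, halfOK l h p = true) :
    equivar (res h 240 hh hk) (res p 120 hp hkp) pairF = ⊤ ∧
      ∀ (g : Cover) (r s : Fin 240),
        (nbr (res h 240 hh hk g r).val).testBit (res h 240 hh hk g s).val = (nbr r.val).testBit s.val := by
  constructor
  · refine top_eq fun l hl r => Fin.ext ?_
    show _ = pairOf (res h 240 hh hk (imD l) r).val
    rw [res_imD hp hkp hl, res_imD hh hk hl]
    show ap (tab l) (p + pairOf r.val) - p = _
    rw [(half_facts hl (hc l hl) r.isLt).2.1]
    omega
  · let u : Cover →* Equiv.Perm (Fin 240 × Fin 240) :=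
      MonoidHom.mk' (fun g => Equiv.prodCongr (res h 240 hh hk g) (res h 240 hh hk g)) fun a b =>
        Equiv.ext fun ⟨_, _⟩ => by simp [Prod.map]
    have hu : equivar u (1 : Cover →* Equiv.Perm Bool) (fun x => (nbr x.1.val).testBit x.2.val) = ⊤ := by
      refine top_eq fun l hl x => ?_
      show (nbr x.1.val).testBit x.2.val =
        (nbr (res h 240 hh hk (imD l) x.1).val).testBit (res h 240 hh hk (imD l) x.2).val
      rw [res_imD hh hk hl x.1, ← (half_facts hl (hc l hl) x.1.isLt).2.2, Bool.eq_iff_iff, testBit_img]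
      constructor
      · exact fun hb => ⟨x.2.val, x.2.isLt, hb, (res_imD hh hk hl x.2).symm⟩
      · rintro ⟨s, hs, hb, e⟩
        have : (⟨s, hs⟩ : Fin 240) = x.2 := (res h 240 hh hk (imD l)).injective (Fin.ext (by
          rw [res_imD hh hk hl ⟨s, hs⟩]
          exact e))
        rw [← this]
        exact hb
    exact fun g r s => ((hu.symm ▸ Subgroup.mem_top g :
      g ∈ equivar u (1 : Cover →* Equiv.Perm Bool) _) (r, s)).symm

theorem half_fixed {h p : ℕ} (hh : h + 240 ≤ 720) (hp : p + 120 ≤ 720) (hk : Keeps h 240) (hkp : Keeps p 120)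
    (hc : ∀ l < 3, halfOK l h p = true) {g : Cover} (hfix : res p 120 hp hkp g = 1)
    (h0 : res h 240 hh hk g ⟨(treeEdges.getD 0 (0, 0)).2, first_root.2⟩ = ⟨(treeEdges.getD 0 (0, 0)).2, first_root.2⟩) :
    res h 240 hh hk g = 1 := by
  obtain ⟨hpair, hR⟩ := half_gen hh hp hk hkp hc
  set C := res h 240 hh hk g
  have hcase : ∀ r, C r = r ∨ C r = negF r := fun r => same_pair (by
    have e := (hpair.symm ▸ Subgroup.mem_top g : g ∈ equivar _ _ pairF) r
    rw [hfix, Equiv.Perm.one_apply] at e
    exact e.symm)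
  let Fixed : ℕ → Prop := fun q => ∀ r : Fin 240, (pairF r).val = q → C r = r
  have hone : ∀ r, C r = r → Fixed (pairF r).val := fun r hr y hy => by
    rcases same_pair (Fin.ext hy : pairF y = pairF r) with rfl | rfl
    · exact hr
    · rcases hcase (negF r) with e | e
      · exact e
      · rcases same_pair (show pairF (C (negF r)) = pairF r by rw [e, (negF_facts _).2.1, (negF_facts r).2.1]) with e' | e'
        · exact absurd (C.injective (e'.trans hr.symm)) (negF_facts r).1
        · exact e'
  have hreach : ∀ (L : List (ℕ × ℕ)) (S : List ℕ),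
      (∀ e ∈ L, e.1 < 240 ∧ e.2 < 240 ∧ (nbr e.2).testBit e.1 = true) → (∀ q ∈ S, Fixed q) →
      ∀ q ∈ reach L S, Fixed q := by
    intro L
    induction L with
    | nil => exact fun S _ hS => hS
    | cons e L ih =>
      intro S hL hS
      refine ih _ (fun x hx => hL x (List.mem_cons_of_mem _ hx)) fun q hq => ?_
      cases hb : S.contains (pairOf e.2)
      · rw [hb, cond_false] at hq
        exact hS q hq
      · rw [hb, cond_true, List.mem_cons] at hq
        rcases hq with rfl | hq
        · obtain ⟨h1, h2, h3⟩ := hL e List.mem_cons_self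
          have hr : C ⟨e.2, h2⟩ = ⟨e.2, h2⟩ := hS _ (List.contains_iff_mem.1 hb) ⟨e.2, h2⟩ rfl
          refine hone ⟨e.1, h1⟩ ((hcase _).resolve_right fun hn => ?_)
          have e' := hR g ⟨e.2, h2⟩ ⟨e.1, h1⟩
          rw [show res h 240 hh hk g = C from rfl, hr, hn, (negF_facts _).2.2 ⟨e.1, h1⟩ h3] at e'
          exact Bool.noConfusion (e'.trans h3)
        · exact hS q hq
  refine Equiv.ext fun r => hreach treeEdges [pairOf (treeEdges.getD 0 (0, 0)).2] (fun e he => ?_) (fun q hq => ?_)
    (pairF r).val (List.contains_iff_mem.1 (List.all_eq_true.1 tree_ok.2 _ (List.mem_range.2 (pairF r).isLt))) r rfl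
  · have h' := List.all_eq_true.1 tree_ok.1 e he
    simp only [Bool.and_eq_true, decide_eq_true_eq] at h'
    exact ⟨h'.1.1, h'.1.2, h'.2⟩
  · rw [List.mem_singleton] at hq
    subst hq
    exact hone _ h0

/-- The multiplication by a point. -/
def phiP (x : Fin 120) : Equiv.Perm (Fin 120) := perm 120 (phiT x.val)

theorem phiT_valid (x : Fin 120) : valid 120 (phiT x.val) = true :=
  List.all_eq_true.1 phi_valid x.val (List.mem_range.2 x.isLt)

theorem phiP_symm (x z : Fin 120) : ((phiP x)⁻¹ z).val = ap (phiT x.val).2 z.val := by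
  rw [phiP, ← perm_pinv (phiT_valid x), perm_apply (valid_pinv (phiT_valid x))]
  rfl

/-- The unit point. -/
def unitF : Fin 120 := ⟨unitPt, phi_unit.1⟩

theorem phiP_unit : phiP unitF = 1 := Equiv.ext fun z => Fin.ext (by
  rw [phiP, perm_apply (phiT_valid _)]
  exact beq_iff_eq.1 (List.all_eq_true.1 phi_unit.2 z.val (List.mem_range.2 z.isLt)))

theorem phi_gen {l : ℕ} (hl : l < 3) (x z : Fin 120) :
    actA (imD l) (phiP x z) =
      phiP (actB (imD l) x) ((phiP (actB (imD l) unitF))⁻¹ (actA (imD l) z)) := by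
  have h := List.all_eq_true.1 (phi_ok hl) x.val (List.mem_range.2 x.isLt)
  simp only [Bool.and_eq_true, List.all_eq_true, List.mem_range, beq_iff_eq] at h
  have h' := h.2 z.val z.isLt
  have eA : ∀ w : Fin 120, (actA (imD l) w).val = ap (tab l) w.val := fun w => by
    rw [actA, res_imD _ _ hl, Nat.zero_add, Nat.sub_zero]
  apply Fin.ext
  rw [eA, phiP, perm_apply (phiT_valid _), phiP, perm_apply (phiT_valid _), phiP_symm, eA, actB,
    res_imD _ _ hl, res_imD _ _ hl]
  exact h'

theorem phi_rel (g : Cover) (x y z : Fin 120) :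
    actA g (phiP x ((phiP y)⁻¹ z)) = phiP (actB g x) ((phiP (actB g y))⁻¹ (actA g z)) := by
  let u : Cover →* Equiv.Perm (Fin 120 × Fin 120 × Fin 120) :=
    MonoidHom.mk' (fun g => Equiv.prodCongr (actB g) (Equiv.prodCongr (actB g) (actA g))) fun a b =>
      Equiv.ext fun ⟨_, _, _⟩ => by simp [Prod.map]
  have hu : equivar u actA (fun t => phiP t.1 ((phiP t.2.1)⁻¹ t.2.2)) = ⊤ := by
    refine top_eq fun l hl t => ?_
    obtain ⟨x, y, z⟩ := t
    show actA (imD l) (phiP x ((phiP y)⁻¹ z)) =
      phiP (actB (imD l) x) ((phiP (actB (imD l) y))⁻¹ (actA (imD l) z))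
    have hy := phi_gen hl y ((phiP y)⁻¹ z)
    rw [Equiv.Perm.coe_inv, Equiv.apply_symm_apply] at hy
    rw [Equiv.Perm.coe_inv, phi_gen hl x, hy]
    simp [Equiv.Perm.coe_inv]
  exact (hu.symm ▸ Subgroup.mem_top g : g ∈ equivar u actA _) (x, y, z)

theorem phiP_inj : Function.Injective phiP := by
  intro a c h
  by_contra hne
  have key : ∀ a c : Fin 120, c.val < a.val → phiP a = phiP c → False := fun a c hlt e => by
    obtain ⟨z, hz, hzne⟩ := List.any_eq_true.1 (List.all_eq_true.1 (List.all_eq_true.1 phi_distinct.2 a.val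
      (List.mem_range.2 a.isLt)) c.val (List.mem_range.2 hlt))
    have hz' : z < 120 := lt_of_lt_of_le (List.mem_range.1 hz) phi_distinct.1
    have e' := congrArg (fun q : Equiv.Perm (Fin 120) => (q ⟨z, hz'⟩).val) e
    simp only [phiP, perm_apply (phiT_valid _)] at e'
    exact bne_iff_ne.1 hzne e'
  rcases lt_trichotomy a.val c.val with h1 | h1 | h1
  · exact key c a h1 h.symm
  · exact hne (Fin.ext h1)
  · exact key a c h1 h

theorem kerA_B {g : Cover} (hg : actA g = 1) : actB g = 1 := by
  have h := fun x z => phi_rel g x unitF z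
  simp only [hg, Equiv.Perm.one_apply, phiP_unit, inv_one] at h
  have hb : actB g unitF = unitF := by
    by_contra hne
    have hne' : (actB g unitF).val ≠ unitPt := fun e => hne (Fin.ext e)
    have hs := List.all_eq_true.1 phi_sep (actB g unitF).val (List.mem_range.2 (actB g unitF).isLt)
    simp only [Bool.or_eq_true, beq_iff_eq, Bool.and_eq_true, decide_eq_true_eq, hne', false_or,
      List.all_eq_true, List.mem_range, List.any_eq_true] at hs
    obtain ⟨hx, hs⟩ := hs
    set x : Fin 120 := ⟨ap sepTab (actB g unitF).val, hx⟩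
    obtain ⟨z, hz, hzne⟩ := hs (actB g x).val (actB g x).isLt
    have hz' : z < 120 := lt_of_lt_of_le hz phi_distinct.1
    have e := h x (phiP (actB g unitF) ⟨z, hz'⟩)
    rw [Equiv.Perm.coe_inv, Equiv.symm_apply_apply] at e
    have e' := congrArg Fin.val e
    simp only [phiP, perm_apply (phiT_valid _)] at e'
    exact bne_iff_ne.1 hzne e'
  refine Equiv.ext fun x => phiP_inj (Equiv.ext fun z => ?_)
  have e := h x z
  rw [hb, phiP_unit, inv_one, Equiv.Perm.one_apply] at e
  exact e.symm

/-- The two roots deciding an element of the kernel. -/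
def root0 : Fin 240 := ⟨(treeEdges.getD 0 (0, 0)).2, first_root.2⟩

theorem kerA_eq_one {g : Cover} (hg : actA g = 1) (hC : actC g root0 = root0) (hD : actD g root0 = root0) :
    g = 1 := by
  have hB := kerA_B hg
  have eC : actC g = 1 := half_fixed _ (by norm_num : 0 + 120 ≤ 720) keepsC keepsA (fun l hl => (half_ok hl).1) hg hC
  have eD : actD g = 1 := half_fixed _ (by norm_num : 120 + 120 ≤ 720) keepsD keepsB (fun l hl => (half_ok hl).2) hB hD
  refine Subtype.ext (Equiv.ext fun x => ?_)
  have hpt : ∀ (h m : ℕ) (hh : h + m ≤ 720) (hk : Keeps h m), res h m hh hk g = 1 →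
      h ≤ x.val → x.val < h + m → (g : Equiv.Perm (Fin 720)) x = x := fun h m hh hk e h1 h2 => by
    have hx : blockPt h hh ⟨x.val - h, by omega⟩ = x := Fin.ext (by simp only [blockPt]; omega)
    rw [← hx, res_spec hh hk, e, Equiv.Perm.one_apply]
  show (g : Equiv.Perm (Fin 720)) x = x
  have := x.isLt
  rcases Nat.lt_or_ge x.val 120 with h1 | h1
  · exact hpt 0 120 _ keepsA hg (Nat.zero_le _) (by omega)
  rcases Nat.lt_or_ge x.val 240 with h2 | h2
  · exact hpt 120 120 _ keepsB hB h1 (by omega)
  rcases Nat.lt_or_ge x.val 480 with h3 | h3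
  · exact hpt 240 240 _ keepsC eC h2 (by omega)
  · exact hpt 480 240 _ keepsD eD h3 (by omega)

theorem kerA_flip {g : Cover} (hg : actA g = 1) :
    (actC g root0 = root0 ∨ actC g root0 = negF root0) ∧ (actD g root0 = root0 ∨ actD g root0 = negF root0) := by
  have hB := kerA_B hg
  constructor
  · refine same_pair ?_
    have e := ((half_gen (by norm_num : 240 + 240 ≤ 720) (by norm_num : 0 + 120 ≤ 720) keepsC keepsA
      fun l hl => (half_ok hl).1).1.symm ▸ Subgroup.mem_top g : g ∈ equivar actC actA pairF) root0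
    simp only [show res 0 120 _ keepsA g = 1 from hg, Equiv.Perm.one_apply] at e
    exact e.symm
  · refine same_pair ?_
    have e := ((half_gen (by norm_num : 480 + 240 ≤ 720) (by norm_num : 120 + 120 ≤ 720) keepsD keepsB
      fun l hl => (half_ok hl).2).1.symm ▸ Subgroup.mem_top g : g ∈ equivar actD actB pairF) root0
    simp only [show res 120 120 _ keepsB g = 1 from hB, Equiv.Perm.one_apply] at e
    exact e.symm

/-! ### The orthogonal group -/

/-- The quadratic form. -/
abbrev qf : (Fin 4 ⊕ Fin 4 → ZMod 2) → ZMod 2 := Cfsg.quadFormPlus 4 (ZMod 2)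

/-- The number of a coordinate. -/
def idx : Fin 4 ⊕ Fin 4 → ℕ := Sum.elim (fun k => k.val) (fun k => k.val + 4)

/-- A vector from its code. -/
def vOf (c : ℕ) : Fin 4 ⊕ Fin 4 → ZMod 2 := fun i => bif c.testBit (idx i) then 1 else 0

/-- The matrix of a letter. -/
def mat (l : ℕ) : Matrix (Fin 4 ⊕ Fin 4) (Fin 4 ⊕ Fin 4) (ZMod 2) :=
  Matrix.of fun i j => vOf ((matCols.getD l []).getD (idx j) 0) i

theorem mat_code : ∀ l : Fin 3, ∀ c : Fin 256, mat l.val *ᵥ vOf c.val = vOf (appM l.val c.val) := by decide +kernel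

theorem qf_code : ∀ c : Fin 256, qf (vOf c.val) = if qcode c.val then 1 else 0 := by decide +kernel

theorem vOf_xor : ∀ i, ∀ a b : ℕ, vOf (a ^^^ b) i = vOf a i + vOf b i := by
  intro i a b
  simp only [vOf, Nat.testBit_xor]
  cases a.testBit (idx i) <;> cases b.testBit (idx i) <;> simp <;> decide

theorem vOf_surj : ∀ v : Fin 4 ⊕ Fin 4 → ZMod 2, ∃ c : Fin 256, vOf c.val = v := by decide +kernel

theorem vOf_inj : ∀ a b : Fin 256, vOf a.val = vOf b.val → a = b := by decide +kernel

theorem vOf_two : ∀ k : Fin 8, ∀ i, vOf (2 ^ k.val) i = if idx i = k.val then 1 else 0 := by decide +kernel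

/-- The vector of a point. -/
def vp (p : Fin 120) : Fin 4 ⊕ Fin 4 → ZMod 2 := vOf (vcode p.val)

theorem vcode_lt (p : Fin 120) : vcode p.val < 256 := by
  have h := List.all_eq_true.1 vec_ok.1 p.val (List.mem_range.2 p.isLt)
  simp only [Bool.and_eq_true, decide_eq_true_eq] at h
  exact h.1

theorem vp_inj : Function.Injective vp := by
  intro a b h
  have e : vcode a.val = vcode b.val := congrArg Fin.val (vOf_inj ⟨_, vcode_lt a⟩ ⟨_, vcode_lt b⟩ h)
  by_contra hne
  have key : ∀ a b : Fin 120, b.val < a.val → vcode a.val = vcode b.val → False := fun a b hlt e => by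
    have h := List.all_eq_true.1 vec_ok.1 a.val (List.mem_range.2 a.isLt)
    simp only [Bool.and_eq_true] at h
    exact bne_iff_ne.1 (List.all_eq_true.1 h.2 b.val (List.mem_range.2 hlt)) e
  rcases lt_trichotomy a.val b.val with h1 | h1 | h1
  · exact key b a h1 e.symm
  · exact hne (Fin.ext h1)
  · exact key a b h1 e

theorem mat_facts {l : ℕ} (hl : l < 3) :
    mat l * mat l = 1 ∧ (∀ v, qf (mat l *ᵥ v) = qf v) ∧ ∀ p, mat l *ᵥ vp p = vp (actA (imD l) p) := by
  have h := List.all_eq_true.1 mat_ok l (List.mem_range.2 hl)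
  simp only [Bool.and_eq_true, List.all_eq_true, List.mem_range, beq_iff_eq, decide_eq_true_eq] at h
  refine ⟨?_, fun v => ?_, fun p => ?_⟩
  · refine Matrix.toLin'.injective (LinearMap.ext fun v => ?_)
    obtain ⟨c, rfl⟩ := vOf_surj v
    rw [Matrix.toLin'_apply, Matrix.toLin'_apply, Matrix.one_mulVec, ← Matrix.mulVec_mulVec,
      mat_code ⟨l, hl⟩ c, mat_code ⟨l, hl⟩ ⟨_, (h.2 c.val c.isLt).1.1⟩]
    exact congrArg vOf (h.2 c.val c.isLt).2
  · obtain ⟨c, rfl⟩ := vOf_surj v
    rw [mat_code ⟨l, hl⟩ c]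
    show qf (vOf (appM l c.val)) = _
    rw [qf_code ⟨_, (h.2 c.val c.isLt).1.1⟩, qf_code c]
    exact congrArg (fun b : Bool => if b then (1 : ZMod 2) else 0) (h.2 c.val c.isLt).1.2
  · rw [vp, mat_code ⟨l, hl⟩ ⟨_, vcode_lt p⟩, vp, actA, res_imD _ _ hl, Nat.zero_add, Nat.sub_zero]
    exact congrArg vOf (h.1 p.val p.isLt)

/-- A letter as an isometry. -/
def gamma (l : Fin 3) : Cfsg.isometryGroup (ZMod 2) qf :=
  ⟨⟨mat l.val, mat l.val, (mat_facts l.isLt).1, (mat_facts l.isLt).1⟩, fun u _ => (mat_facts l.isLt).2.1 u⟩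

/-- The matrix of an isometry. -/
def mt (M : Cfsg.isometryGroup (ZMod 2) qf) : Matrix (Fin 4 ⊕ Fin 4) (Fin 4 ⊕ Fin 4) (ZMod 2) :=
  (M : Matrix.GeneralLinearGroup (Fin 4 ⊕ Fin 4) (ZMod 2))

theorem mt_mul (M N : Cfsg.isometryGroup (ZMod 2) qf) : mt (M * N) = mt M * mt N := rfl

/-- Elements with a matrix. -/
def pairsM : Subgroup (Cover × Cfsg.isometryGroup (ZMod 2) qf) where
  carrier := {t | ∀ p, mt t.2 *ᵥ vp p = vp (actA t.1 p)}
  one_mem' := fun p => by simp [mt]
  mul_mem' := fun {s t} hs ht p => by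
    rw [Prod.snd_mul, Prod.fst_mul, mt_mul, ← Matrix.mulVec_mulVec, ht, hs, map_mul, Equiv.Perm.mul_apply]
  inv_mem' := fun {t} ht p => by
    have h := ht ((actA t.1)⁻¹ p)
    rw [Equiv.Perm.coe_inv, Equiv.apply_symm_apply] at h
    rw [Prod.snd_inv, Prod.fst_inv, map_inv, Equiv.Perm.coe_inv, ← h, Matrix.mulVec_mulVec, ← mt_mul,
      inv_mul_cancel]
    simp [mt]

theorem exists_mat (g : Cover) : ∃ M, (g, M) ∈ pairsM := by
  have h : pairsM.map (MonoidHom.fst Cover _) = ⊤ := top_eq fun l hl =>
    ⟨(imD l, gamma ⟨l, hl⟩), (mat_facts hl).2.2, rfl⟩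
  obtain ⟨⟨g', M⟩, hM, rfl⟩ := (h.symm ▸ Subgroup.mem_top g : g ∈ pairsM.map (MonoidHom.fst Cover _))
  exact ⟨M, hM⟩

theorem mat_unique {M N : Cfsg.isometryGroup (ZMod 2) qf} (h : ∀ p, mt M *ᵥ vp p = mt N *ᵥ vp p) : M = N := by
  refine Subtype.ext (Units.ext ?_)
  show mt M = mt N
  ext i j
  have hk : idx j < 8 := by
    rcases j with k | k <;> simp [idx] <;> omega
  have hu := List.all_eq_true.1 vec_ok.2 (idx j) (List.mem_range.2 hk)
  simp only [Bool.and_eq_true, decide_eq_true_eq, beq_iff_eq] at hu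
  have e : (Pi.single j 1 : Fin 4 ⊕ Fin 4 → ZMod 2) = vp ⟨_, hu.1.1⟩ + vp ⟨_, hu.1.2⟩ := by
    funext i'
    rw [Pi.add_apply, vp, vp, ← vOf_xor, hu.2, vOf_two ⟨idx j, hk⟩, Pi.single_apply]
    have : idx i' = idx j ↔ i' = j := by rcases i' with a | a <;> rcases j with b | b <;> simp [idx, Fin.ext_iff] <;> omega
    simp only [this]
  have e' : mt M *ᵥ Pi.single j 1 = mt N *ᵥ Pi.single j 1 := by
    rw [e, Matrix.mulVec_add, Matrix.mulVec_add, h, h]
  simpa [Matrix.mulVec_single_one] using congrFun e' i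

/-- The representation. -/
noncomputable def toO : Cover →* Cfsg.isometryGroup (ZMod 2) qf :=
  MonoidHom.mk' (fun g => (exists_mat g).choose) fun g k => mat_unique fun p => by
    rw [(exists_mat (g * k)).choose_spec p]
    exact (pairsM.mul_mem (exists_mat g).choose_spec (exists_mat k).choose_spec p).symm

theorem toO_spec (g : Cover) (p : Fin 120) : mt (toO g) *ᵥ vp p = vp (actA g p) := (exists_mat g).choose_spec p

theorem toO_eq {g k : Cover} : toO g = toO k ↔ actA g = actA k := by
  constructor
  · exact fun h => Equiv.ext fun p => vp_inj (by rw [← toO_spec, h, toO_spec])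
  · exact fun h => mat_unique fun p => by rw [toO_spec, toO_spec, h]

theorem actA_word {w : List ℕ} (h : trivWord 120 covTabs w = true) : actA (wval imD w) = 1 := by
  simp only [trivWord, Bool.and_eq_true, List.all_eq_true, decide_eq_true_eq] at h
  have hid := isId_sound (w := w.map fun l => covTabs.getD l (0, 0)) (fun g hg => by
    obtain ⟨l, hl, rfl⟩ := List.mem_map.1 hg
    exact tab120 (covTabs_length ▸ h.1 l hl)) h.2
  rw [wperm, List.map_map] at hid
  rw [wval, map_list_prod, List.map_map, ← hid]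
  refine congrArg List.prod (List.map_congr_left fun l hl => Equiv.ext fun x => Fin.ext ?_)
  have hl' := covTabs_length ▸ h.1 l hl
  show (actA (imD l) x).val = (perm 120 (covTabs.getD l (0, 0)) x).val
  rw [actA, res_imD _ _ hl', perm_apply (tab120 hl'), Nat.zero_add, Nat.sub_zero]
  rfl

theorem rev_inv {w : List ℕ} (hw : ∀ l ∈ w, l < 3) : wval imD w.reverse = (wval imD w)⁻¹ :=
  wval_reverse imD fun l hl => imD_sq (hw l hl)

theorem gen_comm {l : ℕ} (hl : l < 3) : ∃ a b : Cover, actA (imD l) = actA ⁅a, b⁆ := by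
  have h := List.all_eq_true.1 coms_ok l (List.mem_range.2 hl)
  have hw : ∀ l' ∈ (letterComs.getD l ([], [])).1 ++ (letterComs.getD l ([], [])).2, l' < 3 := fun l' hl' => by
    simp only [trivWord, Bool.and_eq_true, List.all_eq_true, decide_eq_true_eq] at h
    refine covTabs_length ▸ h.1 l' (List.mem_cons_of_mem _ ?_)
    exact List.mem_append_left _ (List.mem_append_left _ hl')
  have e := actA_word h
  refine ⟨wval imD (letterComs.getD l ([], [])).1, wval imD (letterComs.getD l ([], [])).2, ?_⟩
  rw [show wval imD (l :: ((letterComs.getD l ([], [])).1 ++ (letterComs.getD l ([], [])).2 ++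
      (letterComs.getD l ([], [])).1.reverse ++ (letterComs.getD l ([], [])).2.reverse)) = imD l *
      (wval imD (letterComs.getD l ([], [])).1 * wval imD (letterComs.getD l ([], [])).2 *
        wval imD (letterComs.getD l ([], [])).1.reverse * wval imD (letterComs.getD l ([], [])).2.reverse) by
      simp [wval, mul_assoc],
    rev_inv fun l' hl' => hw l' (List.mem_append_left _ hl'),
    rev_inv fun l' hl' => hw l' (List.mem_append_right _ hl'), ← commutatorElement_def, map_mul] at e
  have e2 : actA (imD l) * actA (imD l) = 1 := by rw [← map_mul, imD_sq hl, map_one]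
  calc actA (imD l) = actA (imD l) * (actA (imD l) * actA ⁅_, _⁆) := by rw [e, mul_one]
    _ = _ := by rw [← mul_assoc, e2, one_mul]

theorem actA_commutator : (commutator Cover).map actA = actA.range := by
  refine le_antisymm (Subgroup.map_le_range _ _) ?_
  have h : ((commutator Cover).map actA).comap actA = ⊤ := top_eq fun l hl => by
    obtain ⟨a, b, e⟩ := gen_comm hl
    rw [Subgroup.mem_comap, e]
    exact Subgroup.mem_map_of_mem _ (by
      rw [commutator_def]
      exact Subgroup.commutator_mem_commutator (Subgroup.mem_top _) (Subgroup.mem_top _))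
  rintro _ ⟨g, rfl⟩
  exact (h.symm ▸ Subgroup.mem_top g : g ∈ ((commutator Cover).map actA).comap actA)

theorem toO_mem (g : Cover) : toO g ∈ Cfsg.Omega (ZMod 2) qf := by
  obtain ⟨c, hc, e⟩ := (actA_commutator.symm ▸ (⟨g, rfl⟩ : actA g ∈ actA.range) :
    actA g ∈ (commutator Cover).map actA)
  rw [← (toO_eq.2 e : toO c = toO g)]
  have := Subgroup.mem_map_of_mem toO hc
  rw [commutator_def, Subgroup.map_commutator] at this
  show toO c ∈ commutator (Cfsg.isometryGroup (ZMod 2) qf)
  rw [commutator_def]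
  exact Subgroup.commutator_mono le_top le_top this

/-- The projection. -/
noncomputable def toP : Cover →* Cfsg.POmega (ZMod 2) qf :=
  (QuotientGroup.mk' _).comp (toO.codRestrict _ toO_mem)

theorem ker_toP : toP.ker = actA.ker := by
  ext g
  constructor
  · intro hg
    have hc : (⟨toO g, toO_mem g⟩ : Cfsg.Omega (ZMod 2) qf) ∈ Subgroup.center _ :=
      (QuotientGroup.eq_one_iff _).1 hg
    have hcomm : ∀ k, actA g * actA k = actA k * actA g := fun k => by
      rw [← map_mul, ← map_mul, ← toO_eq, map_mul, map_mul]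
      exact congrArg Subtype.val (Subgroup.mem_center_iff.1 hc ⟨toO k, toO_mem k⟩).symm
    have hz : actA g ⟨0, by norm_num⟩ = ⟨0, by norm_num⟩ := by
      by_contra hne
      obtain ⟨h1, h2⟩ := first_fixes_one
      have h := List.all_eq_true.1 h1 (actA g ⟨0, by norm_num⟩).val (List.mem_range.2 (actA g _).isLt)
      simp only [Bool.or_eq_true, beq_iff_eq, List.any_eq_true, bne_iff_ne] at h
      obtain ⟨S, hS, w, hw, hmv⟩ := h.resolve_left fun e => hne (Fin.ext e)
      have h' := List.all_eq_true.1 (List.all_eq_true.1 h2 S hS) w hw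
      simp only [Bool.and_eq_true, List.all_eq_true, decide_eq_true_eq, beq_iff_eq] at h'
      have hA : ∀ x : Fin 120, ((actA (wval imD w))⁻¹ x).val = evalW covTabs w x.val :=
        evalW_apply imD actA covTabs (fun l hl => ⟨tab120 (covTabs_length ▸ hl), Equiv.ext fun x => Fin.ext (by
          rw [actA, res_imD _ _ (covTabs_length ▸ hl), perm_apply (tab120 (covTabs_length ▸ hl)), Nat.zero_add,
            Nat.sub_zero]; rfl)⟩) w (fun l hl => covTabs_length.symm ▸ h'.1 l hl)
      refine hmv ?_
      rw [← hA]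
      have h0 : (actA (wval imD w))⁻¹ (⟨0, by norm_num⟩ : Fin 120) = ⟨0, by norm_num⟩ := Fin.ext ((hA _).trans h'.2)
      have hk := hcomm (wval imD w)⁻¹
      rw [map_inv] at hk
      have := congrArg (fun q : Equiv.Perm (Fin 120) => q ⟨0, by norm_num⟩) hk
      simp only [Equiv.Perm.mul_apply, h0] at this
      exact congrArg Fin.val this.symm
    refine MonoidHom.mem_ker.2 (Equiv.ext fun q => ?_)
    rw [Equiv.Perm.one_apply]
    by_cases hq : q = ⟨0, by norm_num⟩
    · rw [hq, hz]
    have h := List.all_eq_true.1 first_orbit q.val (List.mem_range.2 q.isLt)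
    simp only [Bool.or_eq_true, beq_iff_eq, List.any_eq_true, Bool.and_eq_true, List.all_eq_true,
      decide_eq_true_eq] at h
    obtain ⟨S, -, w, -, hw, hq'⟩ := h.resolve_left fun e => hq (Fin.ext e)
    have hA := evalW_apply imD actA covTabs (fun l hl => ⟨tab120 (covTabs_length ▸ hl), Equiv.ext fun x => Fin.ext (by
      rw [actA, res_imD _ _ (covTabs_length ▸ hl), perm_apply (tab120 (covTabs_length ▸ hl)), Nat.zero_add,
        Nat.sub_zero]; rfl)⟩) w (fun l hl => covTabs_length.symm ▸ hw l hl)
    have eq' : (actA (wval imD w))⁻¹ (⟨0, by norm_num⟩ : Fin 120) = q := Fin.ext ((hA _).trans hq')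
    rw [← eq', ← map_inv]
    have := congrArg (fun p : Equiv.Perm (Fin 120) => p ⟨0, by norm_num⟩) (hcomm (wval imD w)⁻¹)
    simp only [Equiv.Perm.mul_apply, hz] at this
    exact this
  · intro hg
    have e : toO g = 1 := by rw [← map_one toO, toO_eq, map_one]; exact hg
    show QuotientGroup.mk' _ (toO.codRestrict _ toO_mem g) = 1
    rw [show toO.codRestrict _ toO_mem g = 1 from Subtype.ext e, map_one]

theorem card_pomega : Nat.card (Cfsg.POmega (ZMod 2) qf) = 174182400 := by
  have h := Cfsg.Agent.S0293.result (F := ZMod 2) (q := 2) (ZMod.card 2) 4 le_rfl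
  norm_num [Finset.prod_range_succ] at h
  exact h

theorem card_facts : Nat.card Cover = 696729600 ∧ Nat.card toP.ker = 4 ∧ Function.Surjective toP := by
  classical
  haveI : Finite (Cfsg.POmega (ZMod 2) qf) := Nat.finite_of_card_ne_zero (by rw [card_pomega]; norm_num)
  have hlow : 696729600 ≤ Nat.card Cover := by
    have h := chain_bound imD (lgp imC (List.range 3)).subtype covTabs tabledD.act (covChain.map SLev.lev) ⊤
      (covTabs_length.symm ▸ chain_ok) inferInstance (fun _ _ _ _ => Subgroup.mem_top _)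
    rwa [chain_size.1, Subgroup.card_top] at h
  have hker : Nat.card toP.ker ≤ 4 := by
    let f : toP.ker → Bool × Bool := fun g => (decide (actC g.1 root0 = root0), decide (actD g.1 root0 = root0))
    have hf : Function.Injective f := fun a b hab => by
      have ha : actA a.1 = 1 := (ker_toP ▸ a.2 : a.1 ∈ actA.ker)
      have hb : actA b.1 = 1 := (ker_toP ▸ b.2 : b.1 ∈ actA.ker)
      simp only [f, Prod.mk.injEq, decide_eq_decide] at hab
      have h1 : actC a.1 root0 = actC b.1 root0 := by
        by_cases h : actC a.1 root0 = root0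
        · rw [h, hab.1.1 h]
        · rw [(kerA_flip ha).1.resolve_left h, (kerA_flip hb).1.resolve_left (fun x => h (hab.1.2 x))]
      have h2 : actD a.1 root0 = actD b.1 root0 := by
        by_cases h : actD a.1 root0 = root0
        · rw [h, hab.2.1 h]
        · rw [(kerA_flip ha).2.resolve_left h, (kerA_flip hb).2.resolve_left (fun x => h (hab.2.2 x))]
      refine Subtype.ext (inv_mul_eq_one.1 (kerA_eq_one ?_ ?_ ?_)).symm
      · rw [map_mul, map_inv, ha, hb, inv_one, one_mul]
      · rw [map_mul, map_inv, Equiv.Perm.mul_apply, h1, Equiv.Perm.coe_inv, Equiv.symm_apply_apply]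
      · rw [map_mul, map_inv, Equiv.Perm.mul_apply, h2, Equiv.Perm.coe_inv, Equiv.symm_apply_apply]
    exact (Nat.card_le_card_of_injective f hf).trans (by rw [Nat.card_eq_fintype_card]; rfl)
  have h := Subgroup.card_mul_index toP.ker
  rw [Subgroup.index_ker] at h
  have hup := Subgroup.card_le_card_group toP.range
  rw [card_pomega] at hup
  have hk : Nat.card toP.ker = 4 := by
    rcases Nat.lt_or_ge (Nat.card toP.ker) 4 with hlt | hge
    · have := Nat.mul_le_mul (Nat.le_of_lt_succ hlt) hup
      omega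
    · omega
  rw [hk] at h
  exact ⟨by omega, hk, MonoidHom.range_eq_top.1 (Subgroup.eq_top_of_card_eq _ (by rw [card_pomega]; omega))⟩

end Cfsg.Lib.OEightCover
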