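import Cfsg.Agent.Classical.Symp.Matrix
import Cfsg.Prelude.Def_KGroupFacts

/-!
A field isomorphism transports the orthogonal group of plus type.
-/

set_option autoImplicit false

namespace Cfsg.Lib.OEightCover

open scoped Matrix

universe u v

theorem map_mem {F : Type u} {K : Type v} [Field F] [Field K] (e : F ≃+* K) (m : ℕ)
    {g : Matrix.GeneralLinearGroup (Fin m ⊕ Fin m) F} (hg : g ∈ Cfsg.isometryGroup F (Cfsg.quadFormPlus m F)) :
    Matrix.GeneralLinearGroup.map (e : F →+* K) g ∈ Cfsg.isometryGroup K (Cfsg.quadFormPlus m K) := by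
  intro w _
  obtain ⟨w', rfl⟩ : ∃ w' : Fin m ⊕ Fin m → F, (fun i => e (w' i)) = w := ⟨fun i => e.symm (w i), by simp⟩
  have hform : ∀ x : Fin m ⊕ Fin m → F, Cfsg.quadFormPlus m K (fun i => e (x i)) = e (Cfsg.quadFormPlus m F x) :=
    fun x => by simp [Cfsg.quadFormPlus]
  show Cfsg.quadFormPlus m K ((Matrix.GeneralLinearGroup.map (e : F →+* K) g).val *ᵥ fun i => e (w' i)) =
    Cfsg.quadFormPlus m K fun i => e (w' i)
  have hmv : (Matrix.GeneralLinearGroup.map (e : F →+* K) g).val *ᵥ (fun i => e (w' i)) =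
      fun i => e ((g.val *ᵥ w') i) := funext fun i => (RingHom.map_mulVec (e : F →+* K) _ w' i).symm
  rw [hmv, hform, hform]
  exact congrArg e (hg w' w')

/-- The isometry groups correspond. -/
def isomCongr {F : Type u} {K : Type v} [Field F] [Field K] (e : F ≃+* K) (m : ℕ) :
    Cfsg.isometryGroup F (Cfsg.quadFormPlus m F) ≃* Cfsg.isometryGroup K (Cfsg.quadFormPlus m K) where
  toFun g := ⟨_, map_mem e m g.2⟩
  invFun g := ⟨_, map_mem e.symm m g.2⟩
  left_inv g := Subtype.ext (Units.ext (Matrix.ext fun i j => e.symm_apply_apply (g.1.val i j)))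
  right_inv g := Subtype.ext (Units.ext (Matrix.ext fun i j => e.apply_symm_apply (g.1.val i j)))
  map_mul' a b := Subtype.ext (map_mul (Matrix.GeneralLinearGroup.map (e : F →+* K)) a.1 b.1)

theorem pomega_congr {F : Type u} {K : Type v} [Field F] [Field K] (e : F ≃+* K) (m : ℕ) :
    Nonempty (Cfsg.POmega F (Cfsg.quadFormPlus m F) ≃* Cfsg.POmega K (Cfsg.quadFormPlus m K)) := by
  set E := isomCongr e m
  have hmap : (Cfsg.Omega F (Cfsg.quadFormPlus m F)).map E.toMonoidHom = Cfsg.Omega K (Cfsg.quadFormPlus m K) := by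
    show (commutator _).map _ = commutator _
    rw [commutator_def, Subgroup.map_commutator, Subgroup.map_top_of_surjective E.toMonoidHom E.surjective,
      ← commutator_def]
  exact ⟨Cfsg.Lib.Classical.centerQuotCongr ((E.subgroupMap _).trans (MulEquiv.subgroupCongr hmap))⟩

end Cfsg.Lib.OEightCover
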