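import Cfsg.Agent.OEightCover.Model
import Cfsg.Agent.OEightCover.Transport
import Cfsg.Agent.Schur.CoverKernel
import Cfsg.Agent.CosetCert.Sift

/-!
The multiplier of the orthogonal group of plus type in dimension eight over two elements is the four-group.
-/

set_option autoImplicit false
set_option maxHeartbeats 1000000
set_option maxRecDepth 100000
set_option linter.style.haveILetI false

namespace Cfsg.Lib.OEightCover

open Cfsg.Lib.PermCert Cfsg.Lib.CosetCert
open Cfsg.Lib.Schur.Prime (val)
open scoped commutatorElement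

theorem card_cover : Nat.card Cover = 696729600 := card_facts.1

theorem sameC_sound {w u : List ℕ} (h : sameC w u = true) : wval imD w = wval imD u := by
  simp only [sameC, Bool.and_eq_true, List.all_eq_true, decide_eq_true_eq, beq_iff_eq] at h
  obtain ⟨⟨hw, hu⟩, he⟩ := h
  have hle : Nat.card (⊤ : Subgroup Cover) ≤ chainSize (covChain.map SLev.lev) := by
    rw [chain_size.1, Subgroup.card_top, card_cover]
  have key : ∀ v : List ℕ, (∀ l ∈ v, l < 3) → ∃ x, sift covTabs covChain
      (covChain.map fun S => evalW covTabs v S.lev.b) = some x ∧ wval imD x = wval imD v := fun v hv => by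
    refine sift_complete tabledD covChain ⊤ inferInstance (covTabs_length.symm ▸ chain_ok) chain_idx
      (fun _ _ _ _ => Subgroup.mem_top _) hle _ (Subgroup.mem_top _) _ ?_
    rw [List.forall₂_map_right_iff, List.forall₂_same]
    intro S _ p hp
    rw [evalW_apply imD (lgp imC (List.range 3)).subtype covTabs tabledD.act v
      (fun l hl => covTabs_length.symm ▸ hv l hl) p, hp]
  obtain ⟨x, hx, ex⟩ := key w hw
  obtain ⟨y, hy, ey⟩ := key u hu
  rw [List.map_congr_left he, hy, Option.some.injEq] at hx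
  rw [← ex, ← ey, hx]

/-- One of the two central involutions. -/
def zD (k : ℕ) : Cover := wval imD (zWords.getD k ([], [], [])).1

theorem z_ok {k : ℕ} (hk : k < 2) : zOK (zWords.getD k ([], [], [])) = true := by
  rw [List.getD_eq_getElem _ _ (z_facts.1.symm ▸ hk)]
  exact List.all_eq_true.1 z_facts.2.1 _ (List.getElem_mem _)

theorem zD_facts {k : ℕ} (hk : k < 2) : zD k ∈ toP.ker ∧ zD k ∈ Subgroup.center Cover ∧ zD k ∈ commutator Cover := by
  have h := z_ok hk
  simp only [zOK, Bool.and_eq_true, List.all_eq_true, List.mem_range] at h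
  obtain ⟨⟨h1, h2⟩, h3⟩ := h
  refine ⟨ker_toP ▸ MonoidHom.mem_ker.2 (actA_word h1), ?_, ?_⟩
  · have ht := top_eq (P := Subgroup.centralizer {zD k}) fun l hl => by
      rw [Subgroup.mem_centralizer_singleton_iff]
      have e := sameC_sound (h2 l hl)
      simp only [wval, List.map_append, List.prod_append, List.map_cons, List.map_nil, List.prod_cons,
        List.prod_nil, mul_one] at e
      exact e.symm
    exact Subgroup.mem_center_iff.2 fun g =>
      Subgroup.mem_centralizer_singleton_iff.1 (ht.symm ▸ Subgroup.mem_top g)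
  · have e := sameC_sound h3
    have hl := h3
    simp only [sameC, Bool.and_eq_true, List.all_eq_true, decide_eq_true_eq] at hl
    have hA : ∀ l ∈ (zWords.getD k ([], [], [])).2.1, l < 3 :=
      fun l hm => hl.1.1 l (List.mem_append_left _ (List.mem_append_left _ (List.mem_append_left _ hm)))
    have hB : ∀ l ∈ (zWords.getD k ([], [], [])).2.2, l < 3 :=
      fun l hm => hl.1.1 l (List.mem_append_left _ (List.mem_append_left _ (List.mem_append_right _ hm)))
    rw [wval_append', wval_append', wval_append', rev_inv hA, rev_inv hB, ← commutatorElement_def] at e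
    show wval imD (zWords.getD k ([], [], [])).1 ∈ _
    rw [← e, commutator_def]
    exact Subgroup.commutator_mem_commutator (Subgroup.mem_top _) (Subgroup.mem_top _)

theorem evalW_ne {w u : List ℕ} (hw : ∀ l ∈ w, l < 3) (hu : ∀ l ∈ u, l < 3) {x : ℕ} (hx : x < 720)
    (h : evalW covTabs w x ≠ evalW covTabs u x) : wval imD w ≠ wval imD u := fun e => h (by
  have e1 := evalW_apply imD (lgp imC (List.range 3)).subtype covTabs tabledD.act w
    (fun l hl => covTabs_length.symm ▸ hw l hl) ⟨x, hx⟩
  have e2 := evalW_apply imD (lgp imC (List.range 3)).subtype covTabs tabledD.act u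
    (fun l hl => covTabs_length.symm ▸ hu l hl) ⟨x, hx⟩
  rw [e] at e1
  exact e1.symm.trans e2)

theorem base_lt {S : SLev} (hS : S ∈ covChain) : S.lev.b < 720 := of_decide_eq_true
  (List.all_eq_true.1 (by decide +kernel : covChain.all (fun S => decide (S.lev.b < 720)) = true) S hS)

theorem z_lt {k : ℕ} (hk : k < 2) : ∀ l ∈ (zWords.getD k ([], [], [])).1, l < 3 := by
  have h := z_ok hk
  simp only [zOK, trivWord, Bool.and_eq_true, List.all_eq_true, decide_eq_true_eq] at h
  exact fun l hl => covTabs_length ▸ h.1.1.1 l hl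

theorem zD_ne : zD 0 ≠ 1 ∧ zD 1 ≠ 1 ∧ zD 0 ≠ zD 1 := by
  obtain ⟨-, -, h0, h1, h2, -⟩ := z_facts
  have key : ∀ w u : List ℕ, (∀ l ∈ w, l < 3) → (∀ l ∈ u, l < 3) →
      covChain.any (fun S => evalW covTabs w S.lev.b != evalW covTabs u S.lev.b) = true → wval imD w ≠ wval imD u := by
    intro w u hw hu h
    obtain ⟨S, hS, hne⟩ := List.any_eq_true.1 h
    exact evalW_ne hw hu (base_lt hS) (bne_iff_ne.1 hne)
  exact ⟨key _ [] (z_lt (by norm_num)) (by simp) h0, key _ [] (z_lt (by norm_num)) (by simp) h1,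
    key _ _ (z_lt (by norm_num)) (z_lt (by norm_num)) h2⟩

theorem ker_sq {g : Cover} (hg : g ∈ toP.ker) : g * g = 1 := by
  have ha : actA g = 1 := (ker_toP ▸ hg : g ∈ actA.ker)
  obtain ⟨hC, hD⟩ := kerA_flip ha
  have hpair : ∀ (C : Equiv.Perm (Fin 240)), (∀ r, pairF (C r) = pairF r) → C (C root0) = root0 := fun C hp => by
    rcases same_pair (hp root0) with e | e
    · rw [e, e]
    · rw [e]
      rcases same_pair ((hp (negF root0)).trans (negF_facts root0).2.1) with e' | e'
      · exact e'
      · exact absurd (C.injective (e'.trans e.symm)) (negF_facts root0).1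
  refine kerA_eq_one (by rw [map_mul, ha, mul_one]) ?_ ?_
  · rw [map_mul, Equiv.Perm.mul_apply]
    refine hpair _ fun r => ?_
    have e := ((half_gen (by norm_num : 240 + 240 ≤ 720) (by norm_num : 0 + 120 ≤ 720) keepsC keepsA
      fun l hl => (half_ok hl).1).1.symm ▸ Subgroup.mem_top g : g ∈ equivar actC actA pairF) r
    simp only [show res 0 120 _ keepsA g = 1 from ha, Equiv.Perm.one_apply] at e
    exact e.symm
  · rw [map_mul, Equiv.Perm.mul_apply]
    refine hpair _ fun r => ?_
    have e := ((half_gen (by norm_num : 480 + 240 ≤ 720) (by norm_num : 120 + 120 ≤ 720) keepsD keepsB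
      fun l hl => (half_ok hl).2).1.symm ▸ Subgroup.mem_top g : g ∈ equivar actD actB pairF) r
    simp only [show res 120 120 _ keepsB g = 1 from kerA_B ha, Equiv.Perm.one_apply] at e
    exact e.symm

theorem ker_gen {g : Cover} (hg : g ∈ toP.ker) : g ∈ Subgroup.closure {zD 0, zD 1} := by
  obtain ⟨h0, h1, h01⟩ := zD_ne
  have m0 := (zD_facts (k := 0) (by norm_num)).1
  have m1 := (zD_facts (k := 1) (by norm_num)).1
  have hle : Subgroup.closure {zD 0, zD 1} ≤ toP.ker := (Subgroup.closure_le _).2 (by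
    rintro x (rfl | rfl)
    exacts [m0, m1])
  have hsq := ker_sq m1
  have h01' : zD 0 * zD 1 ≠ 1 := fun e => h01 (mul_right_cancel (e.trans hsq.symm))
  have hsub : ({1, zD 0, zD 1, zD 0 * zD 1} : Set Cover) ⊆ (Subgroup.closure {zD 0, zD 1} : Set Cover) := by
    have a0 : zD 0 ∈ Subgroup.closure {zD 0, zD 1} := Subgroup.subset_closure (by simp)
    have a1 : zD 1 ∈ Subgroup.closure {zD 0, zD 1} := Subgroup.subset_closure (by simp)
    rintro x (rfl | rfl | rfl | rfl)
    exacts [one_mem _, a0, a1, mul_mem a0 a1]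
  have hcard : ({1, zD 0, zD 1, zD 0 * zD 1} : Set Cover).ncard = 4 := by
    have e0 : zD 0 ≠ zD 0 * zD 1 := fun e => h1 (left_eq_mul.mp e)
    have e1 : zD 1 ≠ zD 0 * zD 1 := fun e => h0 (right_eq_mul.mp e)
    rw [Set.ncard_insert_of_notMem (by simp [Ne.symm h0, Ne.symm h1, Ne.symm h01']) (Set.toFinite _),
      Set.ncard_insert_of_notMem (by simp [h01, e0]) (Set.toFinite _),
      Set.ncard_pair e1]
  have hc : 4 ≤ Nat.card (Subgroup.closure {zD 0, zD 1} : Subgroup Cover) :=
    hcard ▸ Set.ncard_le_ncard hsub (Set.toFinite _)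
  have heq := Subgroup.eq_of_le_of_card_ge hle (by rw [card_facts.2.1]; exact hc)
  rw [heq]
  exact hg

theorem ker_le {P : Subgroup Cover} (h : ∀ k < 2, zD k ∈ P) : toP.ker ≤ P := fun g hg =>
  (Subgroup.closure_le P).2 (by
    rintro x (rfl | rfl)
    exacts [h 0 (by norm_num), h 1 (by norm_num)]) (ker_gen hg)

theorem cover_perfect : commutator Cover = ⊤ := by
  refine eq_top_iff.2 fun g _ => ?_
  obtain ⟨d, hd, hdg⟩ := (actA_commutator.symm ▸ (⟨g, rfl⟩ : actA g ∈ actA.range) :
    actA g ∈ (commutator Cover).map actA)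
  have hk : d⁻¹ * g ∈ toP.ker := ker_toP ▸ (by rw [MonoidHom.mem_ker, map_mul, map_inv, hdg, inv_mul_cancel])
  simpa using mul_mem hd (ker_le (fun k hk => (zD_facts hk).2.2) hk)

theorem ker_klein : Nonempty (toP.ker ≃* Multiplicative (ZMod 2 × ZMod 2)) := by
  haveI : IsKleinFour toP.ker :=
    { card_four := card_facts.2.1
      exponent_two := by
        refine Nat.dvd_antisymm (Monoid.exponent_dvd_of_forall_pow_eq_one fun g => ?_) ?_
        · exact Subtype.ext (by rw [SubmonoidClass.coe_pow, pow_two]; exact ker_sq g.2)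
        · rcases (Nat.dvd_prime Nat.prime_two).1 (Monoid.exponent_dvd_of_forall_pow_eq_one
            (G := toP.ker) (n := 2) fun g => Subtype.ext (by
              rw [SubmonoidClass.coe_pow, pow_two]; exact ker_sq g.2)) with e | e
          · exact absurd (congrArg Subtype.val ((Monoid.exp_eq_one_iff.mp e).elim
              (⟨zD 0, (zD_facts (by norm_num)).1⟩ : toP.ker) 1)) zD_ne.1
          · rw [e] }
  exact IsKleinFour.nonempty_mulEquiv

theorem val_pcFlat (pcw : List (List ℕ)) : ∀ l : List ℕ,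
    val (fun k => wval imD (pcw.getD k [])) l = wval imD (pcFlat pcw l)
  | [] => rfl
  | k :: l => by
    rw [Cfsg.Lib.Schur.Prime.val_cons, val_pcFlat pcw l,
      show pcFlat pcw (k :: l) = pcw.getD k [] ++ pcFlat pcw l from List.flatMap_cons .., wval_append']

theorem not_dvd_ker (c : Cfsg.Lib.Schur.Prime.Cert) (pcw fw : List (List ℕ))
    (levels : List (ℕ × List (List ℕ) × List (ℕ × ℕ × ℕ))) (hp : c.p.Prime) (hc : c.ok = true)
    (hrules : ∀ j < c.n, ruleC c pcw j = true) (hfus : fusC c pcw fw = true) (hcount : countC c pcw levels = true)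
    (hfact : (696729600 : ℕ).factorization c.p = c.n)
    {Γ : Type} [Group Γ] [Finite Γ] {σ : Γ →* Cover} (hσ : Cfsg.IsStemExtension σ) :
    ¬ c.p ∣ Nat.card σ.ker := by
  simp only [countC, Bool.and_eq_true, List.all_eq_true, decide_eq_true_eq] at hcount
  obtain ⟨⟨hidx, hchain⟩, hsize⟩ := hcount
  set x : ℕ → Cover := fun k => wval imD (pcw.getD k [])
  have hr : ∀ j < c.n, ∀ i ≤ j, val x (c.lhs j i) = val x (c.tail j i) := fun j hj i hi => by
    have h := List.all_eq_true.mp (hrules j hj) i (List.mem_range.mpr (by omega))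
    rw [val_pcFlat, val_pcFlat]
    exact sameC_sound h
  have hf : ∀ f ∈ c.fuse, ∃ g, ∀ k < f.1.length,
      g * val x (f.1.getD k []) * g⁻¹ = val x (f.2.1.getD k []) := by
    intro f hf
    obtain ⟨i, hi, rfl⟩ := List.mem_iff_getElem.mp hf
    refine ⟨wval imD (fw.getD i []), fun k hk => ?_⟩
    have h := List.all_eq_true.mp hfus i (List.mem_range.mpr hi)
    rw [List.getD_eq_getElem _ _ hi] at h
    have e := sameC_sound (List.all_eq_true.mp h k (List.mem_range.mpr hk))
    rw [wval_append', wval_append', ← val_pcFlat, ← val_pcFlat] at e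
    rw [mul_inv_eq_iff_eq_mul]
    exact e
  have hshape : c.shapesOK = true := by
    simp only [Cfsg.Lib.Schur.Prime.Cert.ok, Bool.and_eq_true] at hc
    exact hc.1.2
  have hset : ({i | 0 ≤ i ∧ i < c.n} : Set ℕ) = {i | i < c.n} := by ext; simp
  have hup := Cfsg.Lib.Schur.Prime.card_sub_le c hshape hp.pos x hr c.n 0 (Nat.zero_add _)
  rw [Cfsg.Lib.Schur.Prime.sub, hset] at hup
  set P := Subgroup.closure (x '' {i | i < c.n}) with hP
  have hlow : c.p ^ c.n ≤ Nat.card P := by
    have hmem : ∀ K ∈ levsOf pcw levels, ∀ w ∈ K.gens, wval imD w ∈ P := by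
      intro K hK w hw
      obtain ⟨L, hL, rfl⟩ := List.mem_map.mp hK
      obtain ⟨l, hl, rfl⟩ := List.mem_map.mp hw
      rw [← val_pcFlat]
      refine Subgroup.list_prod_mem _ fun z hz => ?_
      obtain ⟨q, hq, rfl⟩ := List.mem_map.mp hz
      exact Subgroup.subset_closure ⟨q, hidx L hL l hl q hq, rfl⟩
    exact hsize ▸ chain_bound imD (lgp imC (List.range 3)).subtype covTabs tabledD.act (levsOf pcw levels) P
      (covTabs_length.symm ▸ hchain) inferInstance hmem
  have heq : Nat.card P = c.p ^ c.n := le_antisymm hup hlow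
  exact Cfsg.Lib.Schur.Prime.Cert.not_dvd c hp hc hσ x hr hf (by rw [← hP, heq, card_cover, hfact]) heq.symm

theorem cover_ker_eq_bot {Γ : Type} [Group Γ] [Finite Γ] {σ : Γ →* Cover} (hσ : Cfsg.IsStemExtension σ) :
    σ.ker = ⊥ := by
  have hf : ∀ p k : ℕ, p.Prime → p ^ k ∣ 696729600 → ¬ p ^ (k + 1) ∣ 696729600 →
      (696729600 : ℕ).factorization p = k := fun p k hp h1 h2 => by
    refine le_antisymm ?_ ((hp.pow_dvd_iff_le_factorization (by norm_num)).mp h1)
    by_contra h
    exact h2 ((hp.pow_dvd_iff_le_factorization (by norm_num)).mpr (by omega))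
  refine Cfsg.Lib.Schur.ker_eq_bot_of_sylow hσ fun p hp => ?_
  haveI := hp
  have hp' := hp.out
  have hone : ∀ {q : ℕ}, q.Prime → p ∣ q → p = q := fun hq h => (Nat.prime_dvd_prime_iff_eq hp' hq).mp h
  by_cases h2 : p ^ 2 ∣ 696729600
  · have hmem : p = 2 ∨ p = 3 ∨ p = 5 := by
      have h1 : p ∣ 2 ^ 14 * 3 ^ 5 * 5 ^ 2 * 7 := (dvd_pow_self p two_ne_zero).trans (by norm_num; exact h2)
      rcases hp'.dvd_mul.mp h1 with h | h
      · rcases hp'.dvd_mul.mp h with h | h
        · rcases hp'.dvd_mul.mp h with h | h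
          · exact Or.inl (hone Nat.prime_two (hp'.dvd_of_dvd_pow h))
          · exact Or.inr (Or.inl (hone Nat.prime_three (hp'.dvd_of_dvd_pow h)))
        · exact Or.inr (Or.inr (hone (by norm_num) (hp'.dvd_of_dvd_pow h)))
      · obtain rfl := hone (by norm_num) h
        norm_num at h2
    rcases hmem with rfl | rfl | rfl
    · exact certTwo.exists_sylow (not_dvd_ker certTwo pcwTwo fwTwo sylTwo (show Nat.Prime 2 by norm_num) certTwo_ok
        (fun j hj => List.all_eq_true.mp rulesTwo j (List.mem_range'_1.mpr ⟨Nat.zero_le _, by simpa [certTwo] using hj⟩))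
        fusTwo countTwo (hf 2 14 (by norm_num) (by norm_num) (by norm_num)) hσ)
    · exact certThree.exists_sylow (not_dvd_ker certThree pcwThree fwThree sylThree (show Nat.Prime 3 by norm_num) certThree_ok
        (fun j hj => List.all_eq_true.mp rulesThree j (List.mem_range'_1.mpr ⟨Nat.zero_le _, by simpa [certThree] using hj⟩))
        fusThree countThree (hf 3 5 (by norm_num) (by norm_num) (by norm_num)) hσ)
    · exact certFive.exists_sylow (not_dvd_ker certFive pcwFive fwFive sylFive (show Nat.Prime 5 by norm_num) certFive_ok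
        (fun j hj => List.all_eq_true.mp rulesFive j (List.mem_range'_1.mpr ⟨Nat.zero_le _, by simpa [certFive] using hj⟩))
        fusFive countFive (hf 5 2 (by norm_num) (by norm_num) (by norm_num)) hσ)
  · exact Cfsg.Lib.Schur.exists_sylow_cyclic hσ (by rwa [card_cover])

/-- The multiplier. -/
theorem multiplier {F : Type*} [Field F] [Fintype F] (hF : Fintype.card F = 2) :
    Cfsg.HasSchurMultiplier (Cfsg.POmega F (Cfsg.quadFormPlus 4 F)) (Multiplicative (ZMod 2 × ZMod 2)) := by
  let eF : ZMod 2 ≃+* F := ZMod.ringEquivOfPrime F Nat.prime_two hF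
  obtain ⟨i⟩ := pomega_congr eF 4
  obtain ⟨e⟩ := ker_klein
  haveI : Finite (Cfsg.POmega (ZMod 2) qf) := Nat.finite_of_card_ne_zero (by rw [card_pomega]; norm_num)
  refine Cfsg.Lib.Schur.hasSchurMultiplier_of_cover toP ⟨card_facts.2.2, ?_, ?_⟩ cover_perfect
    (fun _ _ _ _ hτ => cover_ker_eq_bot hτ) e i
  · exact ker_le fun k hk => (zD_facts hk).2.1
  · rw [cover_perfect]; exact le_top

end Cfsg.Lib.OEightCover
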